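import Groth.Prelude.Def_W4c6stackyreslrsPsRefl
import Mathlib.LinearAlgebra.TensorProduct.Basis
import Mathlib.RingTheory.HopfAlgebra.Convolution

/-!
# The stabiliser Hopf ideal of a vector of a comodule
-/

open TensorProduct HopfRep

universe u v w

namespace Groth.Agent.PsRefl28

variable {k : Type u} [Field k] {M : Type w} [AddCommGroup M] [Module k M]

/-- The slice by a linear form. -/
noncomputable def slice {X : Type v} [AddCommGroup X] [Module k X] (φ : M →ₗ[k] k) : M ⊗[k] X →ₗ[k] X :=
  (TensorProduct.lid k X).toLinearMap ∘ₗ LinearMap.rTensor X φ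

@[simp] lemma slice_tmul {X : Type v} [AddCommGroup X] [Module k X] (φ : M →ₗ[k] k) (m : M) (x : X) :
    slice φ (m ⊗ₜ[k] x) = φ m • x := by
  simp [slice]

lemma slice_lTensor {X Y : Type v} [AddCommGroup X] [Module k X] [AddCommGroup Y] [Module k Y]
    (φ : M →ₗ[k] k) (g : X →ₗ[k] Y) (z : M ⊗[k] X) : slice φ (LinearMap.lTensor M g z) = g (slice φ z) := by
  induction z with
  | zero => simp
  | tmul m x => simp
  | add a b ha hb => simp only [map_add, ha, hb]

lemma eq_zero_of_slice {X : Type v} [AddCommGroup X] [Module k X] {z : M ⊗[k] X}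
    (h : ∀ φ : M →ₗ[k] k, slice φ z = 0) : z = 0 := by
  classical
  let b := Module.Basis.ofVectorSpace k M
  refine (TensorProduct.equivFinsuppOfBasisLeft b).injective (Finsupp.ext fun i => ?_)
  rw [map_zero, Finsupp.zero_apply, ← h (b.coord i)]
  clear h
  induction z with
  | zero => simp
  | tmul m x => simp
  | add a c ha hc => simp only [map_add, Finsupp.add_apply, ha, hc]

section bialg

variable {A : Type v} [CommRing A] [Bialgebra k A] [Comod k A M]

/-- The ideal of the stabiliser of a vector. -/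
noncomputable def stab (A : Type v) [CommRing A] [Bialgebra k A] [Comod k A M] (v : M) : Ideal A :=
  Ideal.span (Set.range fun φ : M →ₗ[k] k =>
    slice φ (Comod.coact (k := k) (A := A) v - v ⊗ₜ[k] (1 : A)))

theorem mem_quotInvariants_iff_stab_le (v : M) (I : Ideal A) :
    v ∈ GLin.quotInvariants k A M I ↔ stab (k := k) A v ≤ I := by
  rw [GLin.mem_quotInvariants_iff, stab, Ideal.span_le]
  have e : LinearMap.lTensor M (Ideal.Quotient.mkₐ k I).toLinearMap (v ⊗ₜ[k] (1 : A)) = v ⊗ₜ[k] (1 : A ⧸ I) := by
    simp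
  constructor
  · rintro h _ ⟨φ, rfl⟩
    refine Ideal.Quotient.eq_zero_iff_mem.1 ?_
    show (Ideal.Quotient.mkₐ k I).toLinearMap (slice φ _) = 0
    rw [← slice_lTensor, map_sub, h, e, sub_self, map_zero]
  · intro h
    rw [← e, ← sub_eq_zero, ← map_sub]
    refine eq_zero_of_slice fun φ => ?_
    rw [slice_lTensor]
    exact Ideal.Quotient.eq_zero_iff_mem.2 (h ⟨φ, rfl⟩)

lemma lTensor_mk_coact (v : M) :
    LinearMap.lTensor M (Ideal.Quotient.mkₐ k (stab (k := k) A v)).toLinearMap (Comod.coact (k := k) (A := A) v) =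
      v ⊗ₜ[k] (1 : A ⧸ stab (k := k) A v) :=
  (GLin.mem_quotInvariants_iff k A M _ v).1 ((mem_quotInvariants_iff_stab_le v _).2 le_rfl)

lemma map_comul_slice (v : M) (φ : M →ₗ[k] k) {N : Type v} [AddCommGroup N] [Module k N] (g : A →ₗ[k] N) :
    TensorProduct.map g (Ideal.Quotient.mkₐ k (stab (k := k) A v)).toLinearMap
        (CoalgebraStruct.comul (slice φ (Comod.coact (k := k) (A := A) v))) =
      g (slice φ (Comod.coact (k := k) (A := A) v)) ⊗ₜ[k] (1 : A ⧸ stab (k := k) A v) := by
  rw [← slice_lTensor]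
  have hc := LinearMap.congr_fun (Comod.coassoc (k := k) (A := A) (V := M)) v
  simp only [LinearMap.comp_apply] at hc
  rw [← hc]
  let h : M →ₗ[k] N := g ∘ₗ slice φ ∘ₗ Comod.coact (k := k) (A := A)
  have key : ∀ z : M ⊗[k] A,
      TensorProduct.map g (Ideal.Quotient.mkₐ k (stab (k := k) A v)).toLinearMap
        (slice φ ((TensorProduct.assoc k M A A).toLinearMap
          ((Comod.coact (k := k) (A := A)).rTensor A z))) =
      LinearMap.rTensor (A ⧸ stab (k := k) A v) h
        (LinearMap.lTensor M (Ideal.Quotient.mkₐ k (stab (k := k) A v)).toLinearMap z) := by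
    intro z
    induction z with
    | zero => simp only [map_zero]
    | add a b ha hb => simp only [map_add, ha, hb]
    | tmul m a =>
      simp only [LinearMap.rTensor_tmul, LinearMap.lTensor_tmul, h, LinearMap.comp_apply]
      generalize Comod.coact (k := k) (A := A) m = w
      induction w with
      | zero => simp only [map_zero, zero_tmul]
      | add a b ha hb => simp only [map_add, add_tmul, ha, hb]
      | tmul n c => simp [TensorProduct.smul_tmul']
  rw [key, lTensor_mk_coact]
  rfl

lemma slice_tmul_one (v : M) (φ : M →ₗ[k] k) :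
    slice φ (v ⊗ₜ[k] (1 : A)) = algebraMap k A (φ v) := by
  rw [slice_tmul, Algebra.algebraMap_eq_smul_one]

lemma counit_slice (v : M) (φ : M →ₗ[k] k) :
    CoalgebraStruct.counit (R := k) (slice φ (Comod.coact (k := k) (A := A) v)) = φ v := by
  have h := LinearMap.congr_fun (Comod.counit_comp (k := k) (A := A) (V := M)) v
  simp only [LinearMap.comp_apply] at h
  have key : ∀ z : M ⊗[k] A, CoalgebraStruct.counit (R := k) (slice φ z) =
      φ ((TensorProduct.rid k M) (LinearMap.lTensor M (CoalgebraStruct.counit (R := k) (A := A)) z)) := by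
    intro z
    induction z with
    | zero => simp
    | tmul m a => simp [mul_comm]
    | add a b ha hb => simp only [map_add, ha, hb]
  rw [key, h]
  simp

lemma mk_slice (v : M) (φ : M →ₗ[k] k) :
    Ideal.Quotient.mk (stab (k := k) A v) (slice φ (Comod.coact (k := k) (A := A) v)) =
      algebraMap k _ (φ v) := by
  have : slice φ (Comod.coact (k := k) (A := A) v - v ⊗ₜ[k] (1 : A)) ∈ stab (k := k) A v :=
    Ideal.subset_span ⟨φ, rfl⟩
  rw [map_sub, slice_tmul_one] at this
  rw [Ideal.Quotient.eq.2 this]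
  rfl

instance isCoideal_stab (v : M) : ((stab (k := k) A v).restrictScalars k).IsCoideal where
  counit_eq_zero := by
    intro x hx
    have hx' : x ∈ stab (k := k) A v := hx
    have hle : stab (k := k) A v ≤ RingHom.ker (Bialgebra.counitAlgHom k A) := by
      refine Ideal.span_le.2 ?_
      rintro _ ⟨φ, rfl⟩
      show CoalgebraStruct.counit (R := k) (slice φ (Comod.coact v - v ⊗ₜ[k] (1 : A))) = 0
      rw [map_sub, map_sub, counit_slice, slice_tmul_one, Bialgebra.counit_algebraMap, sub_self]
    exact hle hx'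
  map_mkQ_comul_eq_zero := by
    intro x hx
    have hx' : x ∈ stab (k := k) A v := hx
    let Φ : A →ₐ[k] (A ⧸ stab (k := k) A v) ⊗[k] (A ⧸ stab (k := k) A v) :=
      (Algebra.TensorProduct.map (Ideal.Quotient.mkₐ k _) (Ideal.Quotient.mkₐ k _)).comp
        (Bialgebra.comulAlgHom k A)
    have hle : stab (k := k) A v ≤ RingHom.ker Φ := by
      refine Ideal.span_le.2 ?_
      rintro _ ⟨φ, rfl⟩
      show Φ (slice φ (Comod.coact v - v ⊗ₜ[k] (1 : A))) = 0
      rw [map_sub, map_sub, slice_tmul_one, AlgHom.commutes, sub_eq_zero]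
      show TensorProduct.map (Ideal.Quotient.mkₐ k (stab (k := k) A v)).toLinearMap
        (Ideal.Quotient.mkₐ k (stab (k := k) A v)).toLinearMap (CoalgebraStruct.comul _) = _
      rw [map_comul_slice, AlgHom.toLinearMap_apply, Ideal.Quotient.mkₐ_eq_mk, mk_slice,
        Algebra.TensorProduct.algebraMap_apply]
    exact hle hx'

end bialg

section hopf

variable {A : Type v} [CommRing A] [HopfAlgebra k A] [Comod k A M]

/-- The stabiliser is a Hopf ideal. -/
theorem isHopfIdeal_stab (v : M) : (stab (k := k) A v).IsHopfIdeal k := by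
  refine { toIsCoideal := isCoideal_stab v, antipode_mem := ?_ }
  intro x hx
  let Ψ : A →ₐ[k] A ⧸ stab (k := k) A v :=
    (Ideal.Quotient.mkₐ k _).comp (HopfAlgebra.antipodeAlgHom k A)
  have hle : stab (k := k) A v ≤ RingHom.ker Ψ := by
    refine Ideal.span_le.2 ?_
    rintro _ ⟨φ, rfl⟩
    show Ψ (slice φ (Comod.coact v - v ⊗ₜ[k] (1 : A))) = 0
    rw [map_sub, map_sub, slice_tmul_one, AlgHom.commutes, sub_eq_zero]
    have h := map_comul_slice (A := A) v φ Ψ.toLinearMap
    have h2 := congrArg (LinearMap.mul' k (A ⧸ stab (k := k) A v)) h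
    rw [LinearMap.mul'_apply, mul_one] at h2
    show Ψ.toLinearMap _ = _
    rw [← h2]
    have key : ∀ z : A ⊗[k] A, LinearMap.mul' k (A ⧸ stab (k := k) A v)
        (TensorProduct.map Ψ.toLinearMap (Ideal.Quotient.mkₐ k (stab (k := k) A v)).toLinearMap z) =
        Ideal.Quotient.mkₐ k _ (LinearMap.mul' k A ((HopfAlgebra.antipode k).rTensor A z)) := by
      intro z
      induction z with
      | zero => simp only [map_zero]
      | tmul a b => simp [Ψ]
      | add a b ha hb => simp only [map_add, ha, hb]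
    rw [key, HopfAlgebra.mul_antipode_rTensor_comul_apply, counit_slice, AlgHom.commutes]
  have := hle hx
  rwa [RingHom.mem_ker, AlgHom.comp_apply, Ideal.Quotient.mkₐ_eq_mk, Ideal.Quotient.eq_zero_iff_mem] at this

end hopf

end Groth.Agent.PsRefl28
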