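import Groth.Agent.Lib.PsRefl28.Refl
import Groth.Agent.Lib.FinGrpInv.Main
import Groth.Agent.Lib.RegLoc.GlobalDim
import Groth.Agent.Lib.RegLoc.Basic
import Mathlib.RingTheory.Ideal.GoingUp
import Mathlib.RingTheory.Nakayama

/-!
# Invariants of a group generated by pseudo-reflections are regular at a fixed point
-/

open TensorProduct HopfRep
open scoped TensorProduct

universe u

namespace Groth.Agent.PsRefl28

variable {k : Type u} [Field k] {R : Type u} [CommRing R] [Algebra k R]
variable {A : Type u} [CommRing A] [HopfAlgebra k A] [Comod k A R] [GLin.IsCoactAlg k A R]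

/-- An ideal stable under the coaction. -/
def Stable (A : Type u) [CommRing A] [HopfAlgebra k A] [Comod k A R] [GLin.IsCoactAlg k A R] (K : Ideal R) :
    Prop :=
  K ≤ (K.map (Algebra.TensorProduct.includeLeft : R →ₐ[k] R ⊗[k] A)).comap (GLin.coactAlgHom k A R)

lemma Stable.sup {K K' : Ideal R} (h : Stable (k := k) A K) (h' : Stable (k := k) A K') :
    Stable (k := k) A (K ⊔ K') :=
  sup_le (h.trans (Ideal.comap_mono (Ideal.map_mono le_sup_left)))
    (h'.trans (Ideal.comap_mono (Ideal.map_mono le_sup_right)))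

lemma Stable.pow {K : Ideal R} (h : Stable (k := k) A K) (j : ℕ) : Stable (k := k) A (K ^ j) := by
  unfold Stable at h ⊢
  rw [← Ideal.map_le_iff_le_comap] at h ⊢
  rw [Ideal.map_pow, Ideal.map_pow]
  exact Ideal.pow_right_mono h j

lemma stable_ker (x : R →ₐ[k] k) (hx : GLin.IsFixedPt k A x) : Stable (k := k) A (RingHom.ker x) :=
  fun _ hf => coact_mem_map x hx hf

lemma stable_map_invariants (n : Ideal (GLin.invariants k A R)) :
    Stable (k := k) A (n.map (algebraMap (GLin.invariants k A R) R)) := by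
  rw [Stable, Ideal.map_le_iff_le_comap]
  intro c hc
  rw [Ideal.mem_comap, Ideal.mem_comap]
  have h := Ideal.mem_map_of_mem (Algebra.TensorProduct.includeLeft : R →ₐ[k] R ⊗[k] A)
    (Ideal.mem_map_of_mem (algebraMap (GLin.invariants k A R) R) hc)
  have e : GLin.coactAlgHom k A R (algebraMap (GLin.invariants k A R) R c) = (c : R) ⊗ₜ[k] (1 : A) :=
    (GLin.mem_invariants_iff k A R _).1 c.2
  rw [e]
  exact h

lemma Stable.isSubcomod {K : Ideal R} (h : Stable (k := k) A K) :
    IsSubcomod (k := k) (A := A) (K.restrictScalars k) := by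
  intro f hf
  have h' : GLin.coactAlgHom k A R f ∈
      ((K.map (Algebra.TensorProduct.includeLeft : R →ₐ[k] R ⊗[k] A))).restrictScalars k := h hf
  rw [Ideal.map_includeLeft_eq] at h'
  exact h'

lemma Stable.disp_mem {K : Ideal R} (h : Stable (k := k) A K) (I : Ideal A) {f : R} (hf : f ∈ K) :
    disp (k := k) I f ∈ K.map (Algebra.TensorProduct.includeLeft : R →ₐ[k] R ⊗[k] (A ⧸ I)) := by
  rw [disp_apply]
  refine sub_mem ?_ (Ideal.mem_map_of_mem (Algebra.TensorProduct.includeLeft : R →ₐ[k] R ⊗[k] (A ⧸ I)) hf)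
  let M := Algebra.TensorProduct.map (AlgHom.id k R) (Ideal.Quotient.mkₐ k I)
  have h2 : M (GLin.coactAlgHom k A R f) ∈
      (K.map (Algebra.TensorProduct.includeLeft : R →ₐ[k] R ⊗[k] A)).map M := Ideal.mem_map_of_mem M (h hf)
  have h3 : (K.map (Algebra.TensorProduct.includeLeft : R →ₐ[k] R ⊗[k] A)).map M ≤
      K.map (Algebra.TensorProduct.includeLeft : R →ₐ[k] R ⊗[k] (A ⧸ I)) := by
    refine Ideal.map_le_iff_le_comap.2 (Ideal.map_le_iff_le_comap.2 fun r hr => ?_)
    rw [Ideal.mem_comap, Ideal.mem_comap]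
    have := Ideal.mem_map_of_mem (Algebra.TensorProduct.includeLeft : R →ₐ[k] R ⊗[k] (A ⧸ I)) hr
    simpa [M] using this
  exact h3 h2

lemma invariant_of_disp (x : R →ₐ[k] k) (hgen : GLin.IsGenByPseudoReflAt k A R x) {p : R}
    (h : ∀ I : Ideal A, GLin.IsPseudoReflAt k A R x I → disp (k := k) I p = 0) :
    p ∈ GLin.invariants k A R := by
  have hle : stab (k := k) A p ≤ ⊥ := by
    have hs : stab (k := k) A p ≤ GLin.genIdealAt k A R x :=
      le_sSup ⟨isHopfIdeal_stab p, fun I hI => (mem_quotInvariants_iff_stab_le p I).1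
        ((GLin.mem_quotInvariants_iff k A R I p).2 (sub_eq_zero.1 (h I hI)))⟩
    exact hs.trans (le_of_eq hgen)
  rw [GLin.mem_invariants_iff, ← sub_eq_zero]
  exact eq_zero_of_slice fun φ => (Submodule.mem_bot A).1 (hle (Ideal.subset_span ⟨φ, rfl⟩))

/-- If `P` is a complement stable under the coaction, displacements in `K` vanish on `P`. -/
lemma disp_eq_zero_of_mem (I : Ideal A) [I.IsHopfIdeal k] {K : Ideal R} {P : Submodule k R}
    (hP : IsSubcomod (k := k) (A := A) P) (hd : Disjoint (K.restrictScalars k) P) {p : R} (hp : p ∈ P)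
    (h : disp (k := k) I p ∈ K.map (Algebra.TensorProduct.includeLeft : R →ₐ[k] R ⊗[k] (A ⧸ I))) :
    disp (k := k) I p = 0 := by
  have h1 : disp (k := k) I p ∈ Comodule.tens (A ⧸ I) (K.restrictScalars k) := by
    have h' : disp (k := k) I p ∈
        (K.map (Algebra.TensorProduct.includeLeft : R →ₐ[k] R ⊗[k] (A ⧸ I))).restrictScalars k := h
    rw [Ideal.map_includeLeft_eq] at h'
    exact h'
  have h2 : disp (k := k) I p ∈ Comodule.tens (A ⧸ I) P := by
    rw [disp_apply]
    refine sub_mem ?_ (Comodule.tmul_mem_tens hp _)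
    obtain ⟨y, hy⟩ := hP p hp
    refine ⟨LinearMap.lTensor P (Ideal.Quotient.mkₐ k I).toLinearMap y, ?_⟩
    rw [coactQ_apply, ← hy, ← LinearMap.comp_apply, ← LinearMap.comp_apply, LinearMap.rTensor_comp_lTensor,
      LinearMap.lTensor_comp_rTensor]
  obtain ⟨z, hz⟩ := Comodule.tens_inf _ _ h1 h2
  rw [← hz, show (K.restrictScalars k ⊓ P).subtype = 0 from
    LinearMap.ext fun a => Submodule.disjoint_def.1 hd a a.2.1 a.2.2]
  simp

variable (x : R →ₐ[k] k) (hx : GLin.IsFixedPt k A x)

lemma isMaximal_ker : (RingHom.ker x).IsMaximal :=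
  RingHom.ker_isMaximal_of_surjective x fun c => ⟨algebraMap k R c, x.commutes c⟩

lemma mem_of_mul_mem {d : ℕ} {K : Ideal R} (hK : RingHom.ker x ^ d ≤ K) {a c : R} (ha : x a ≠ 0)
    (h : a * c ∈ K) : c ∈ K := by
  have hm := isMaximal_ker x
  have htop : Ideal.span {a} ⊔ RingHom.ker x = ⊤ := by
    refine hm.1.2 _ (lt_of_le_of_ne le_sup_right fun he => ha (RingHom.mem_ker.1 ?_))
    rw [he]
    exact Ideal.mem_sup_left (Ideal.mem_span_singleton_self a)
  have := Ideal.sup_pow_eq_top (n := d) htop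
  obtain ⟨l, hl, e, he, hle⟩ := Submodule.mem_sup.1 ((Ideal.eq_top_iff_one _).1 this)
  obtain ⟨r, rfl⟩ := Ideal.mem_span_singleton'.1 hl
  rw [show c = r * (a * c) + e * c by rw [← mul_assoc, ← add_mul, hle, one_mul]]
  exact add_mem (K.mul_mem_left _ h) (K.mul_mem_right _ (hK he))

include hx in
lemma step_disp [IsNoetherianRing R] [hp : (RingHom.ker x).IsPrime] [IsDomain (Localization.AtPrime (RingHom.ker x))]
    (hsub : ∀ (I : Ideal A) [I.IsHopfIdeal k], HopfRep.IsLinearlyReductive k (A ⧸ I))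
    (I : Ideal A) (hI : GLin.IsPseudoReflAt k A R x I)
    {ι : Type*} (T : Finset ι) (h : ι → GLin.invariants k A R) (i₀ : ι) (hi₀ : i₀ ∈ T) {K : Ideal R}
    {d : ℕ} (hmK : RingHom.ker x ^ d ≤ K)
    (ih : ∀ g : ι → R, ∑ i ∈ T, g i * (h i : R) = 0 → RingHom.ker x * Ideal.span {g i₀} ≤ K)
    (g : ι → R) (hg : ∑ i ∈ T, g i * (h i : R) = 0) :
    disp (k := k) I (g i₀) ∈ K.map (Algebra.TensorProduct.includeLeft : R →ₐ[k] R ⊗[k] (A ⧸ I)) := by
  classical
  haveI := hI.1
  let b := Module.Basis.ofVectorSpace k (A ⧸ I)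
  obtain ⟨L, hL, hL2, hdiv⟩ := exists_dvd_disp x hx I hI (hsub I) b
  rw [mem_map_includeLeft_iff b]
  intro j
  let c : ι → R := fun i => comp b j (disp I (g i))
  have hc : ∑ i ∈ T, c i * (h i : R) = 0 := by
    have h1 : ∀ i, disp (k := k) I (g i * (h i : R)) = (h i : R) • disp (k := k) I (g i) := fun i => by
      rw [disp_mul_invariant I _ (h i).2, mul_comm]
      exact (Algebra.smul_def (h i : R) _).symm
    have h2 : comp b j (disp (k := k) I (∑ i ∈ T, g i * (h i : R))) = 0 := by rw [hg, map_zero, map_zero]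
    rw [map_sum, map_sum] at h2
    refine Eq.trans (Finset.sum_congr rfl fun i _ => ?_) h2
    rw [h1, map_smul, smul_eq_mul, mul_comm]
  choose u hu hd using fun i => hdiv (g i) j
  choose w hw using hd
  let U := ∏ i ∈ T, u i
  have hU : x U ≠ 0 := by
    rw [map_prod]
    exact Finset.prod_ne_zero_iff.2 fun i _ => hu i
  let w' : ι → R := fun i => (∏ l ∈ T.erase i, u l) * w i
  have hUc : ∀ i ∈ T, U * c i = L * w' i := fun i hi => by
    have : U = u i * ∏ l ∈ T.erase i, u l := (Finset.mul_prod_erase T u hi).symm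
    rw [this]
    show _ * comp b j (disp I (g i)) = _
    rw [mul_comm (u i), mul_assoc, hw i]
    ring
  have hLw : L * ∑ i ∈ T, w' i * (h i : R) = 0 := by
    rw [Finset.mul_sum, show (0 : R) = U * ∑ i ∈ T, c i * (h i : R) by rw [hc, mul_zero], Finset.mul_sum]
    exact Finset.sum_congr rfl fun i hi => by rw [← mul_assoc, ← hUc i hi, mul_assoc]
  let Rm := Localization.AtPrime (RingHom.ker x)
  have hLne : algebraMap R Rm L ≠ 0 := by
    intro h0
    obtain ⟨⟨s, hs⟩, hsL⟩ := (IsLocalization.map_eq_zero_iff (RingHom.ker x).primeCompl Rm L).1 h0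
    refine hL2 (mem_of_mul_mem x le_rfl (fun h0' => hs (RingHom.mem_ker.2 h0')) ?_)
    exact (show s * L = 0 from hsL) ▸ zero_mem _
  have hw0 : algebraMap R Rm (∑ i ∈ T, w' i * (h i : R)) = 0 := by
    have := congrArg (algebraMap R Rm) hLw
    rw [map_mul, map_zero] at this
    exact (mul_eq_zero.1 this).resolve_left hLne
  obtain ⟨⟨s, hs⟩, hsw⟩ := (IsLocalization.map_eq_zero_iff (RingHom.ker x).primeCompl Rm _).1 hw0
  have hs' : x s ≠ 0 := fun h0' => hs (RingHom.mem_ker.2 h0')
  refine mem_of_mul_mem x hmK (show x (s * U) ≠ 0 by rw [map_mul]; exact mul_ne_zero hs' hU) ?_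
  show (s * U) * c i₀ ∈ K
  rw [mul_assoc, hUc i₀ hi₀, show s * (L * w' i₀) = L * (s * w' i₀) by ring]
  refine ih (fun i => s * w' i) ?_ (Ideal.mul_mem_mul hL (Ideal.mem_span_singleton_self _))
  have : s * ∑ i ∈ T, w' i * (h i : R) = 0 := hsw
  rw [Finset.mul_sum] at this
  exact (Finset.sum_congr rfl fun i _ => mul_assoc _ _ _).trans this

/-- The ideal of the image point. -/
abbrev invKer : Ideal (GLin.invariants k A R) := RingHom.ker (x.comp (GLin.invariants k A R).val)

include hx in
/-- Syzygies of invariant elements. -/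
theorem mem_map_sup_pow [IsNoetherianRing R] [(RingHom.ker x).IsPrime]
    [IsDomain (Localization.AtPrime (RingHom.ker x))] (hG : HopfRep.IsLinearlyReductive k A)
    (hsub : ∀ (I : Ideal A) [I.IsHopfIdeal k], HopfRep.IsLinearlyReductive k (A ⧸ I))
    (hgen : GLin.IsGenByPseudoReflAt k A R x)
    {ι : Type*} [DecidableEq ι] (T : Finset ι) (h : ι → GLin.invariants k A R) (i₀ : ι) (hi₀ : i₀ ∈ T)
    (hmin : ∀ u : GLin.invariants k A R, u ∉ invKer x →
      u * h i₀ ∉ Ideal.span (h '' ↑(T.erase i₀))) (d : ℕ) :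
    ∀ g : ι → R, ∑ i ∈ T, g i * (h i : R) = 0 →
      g i₀ ∈ (invKer (A := A) x).map (algebraMap (GLin.invariants k A R) R) ⊔ RingHom.ker x ^ d := by
  classical
  obtain ⟨E, hE⟩ := Comodule.exists_reynolds (k := k) (A := A) (V := R) hG
  have hlin : ∀ (a : GLin.invariants k A R) (y : R), E (y * (a : R)) = E y * (a : R) := by
    intro a y
    have hf : Hoch.IsComodHom A (LinearMap.mulRight k (a : R)) := by
      refine LinearMap.ext fun z => ?_
      simp only [LinearMap.comp_apply, LinearMap.mulRight_apply]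
      rw [GLin.IsCoactAlg.coact_mul, (GLin.mem_invariants_iff k A R _).1 a.2]
      induction Comod.coact (k := k) (A := A) z with
      | zero => simp
      | tmul m a => simp [Algebra.TensorProduct.tmul_mul_tmul]
      | add p q hp hq => simp [add_mul, hp, hq]
    exact LinearMap.congr_fun (hE.comp_comm hG hE hf) y
  induction d with
  | zero => intro g _; rw [pow_zero, Ideal.one_eq_top, sup_top_eq]; trivial
  | succ d ih =>
    intro g hg
    let J := (invKer (A := A) x).map (algebraMap (GLin.invariants k A R) R)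
    let K : Ideal R := J ⊔ RingHom.ker x ^ (d + 1)
    have hstab : Stable (k := k) A K := (stable_map_invariants _).sup ((stable_ker x hx).pow _)
    have hmul : ∀ g : ι → R, ∑ i ∈ T, g i * (h i : R) = 0 → RingHom.ker x * Ideal.span {g i₀} ≤ K := by
      intro g hg
      refine (Ideal.mul_mono_right ((Ideal.span_singleton_le_iff_mem _).2 (ih g hg))).trans ?_
      rw [Ideal.mul_sup, ← pow_succ']
      exact sup_le_sup_right Ideal.mul_le_right _
    obtain ⟨P, hP, hc⟩ := Comodule.exists_isCompl (V := R) hG _ hstab.isSubcomod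
    obtain ⟨q, hq, p, hp, hqp⟩ :=
      Submodule.mem_sup.1 (hc.sup_eq_top ▸ Submodule.mem_top : g i₀ ∈ K.restrictScalars k ⊔ P)
    have hpI : p ∈ GLin.invariants k A R := invariant_of_disp x hgen fun I hI => by
      haveI := hI.1
      refine disp_eq_zero_of_mem I hP hc.disjoint hp ?_
      have h1 := step_disp x hx hsub I hI T h i₀ hi₀ (K := K) le_sup_right hmul g hg
      rw [← hqp, map_add] at h1
      exact (add_mem_cancel_left (hstab.disp_mem I hq)).1 h1
    have hKm : K ≤ RingHom.ker x := by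
      refine sup_le (Ideal.map_le_iff_le_comap.2 fun c hc => hc) (Ideal.pow_le_self (Nat.succ_ne_zero d))
    have hxp : x p = 0 := by
      by_contra hne
      let e : ι → GLin.invariants k A R := fun i => ⟨E (g i), hE.mem (g i)⟩
      have he : ∑ i ∈ T, e i * h i = 0 := Subtype.ext (by
        push_cast
        simp only [e, ← hlin, ← map_sum, hg, map_zero])
      refine hmin (e i₀) ?_ ?_
      · have hq0 : x (E q) = 0 := hKm (hE.apply_mem hG hstab.isSubcomod hq)
        show x (E (g i₀)) ≠ 0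
        rwa [← hqp, map_add, map_add, hq0, zero_add, (hE.fix p).2 hpI]
      · rw [← Finset.add_sum_erase T _ hi₀, add_eq_zero_iff_eq_neg] at he
        rw [he]
        exact neg_mem (sum_mem fun i hi => Ideal.mul_mem_left _ _ (Ideal.subset_span ⟨i, hi, rfl⟩))
    rw [← hqp]
    refine add_mem hq (Ideal.mem_sup_left ?_)
    exact Ideal.mem_map_of_mem (algebraMap (GLin.invariants k A R) R)
      (show (⟨p, hpI⟩ : GLin.invariants k A R) ∈ invKer x from hxp)

end Groth.Agent.PsRefl28
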