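import Mathlib.RingTheory.RegularLocalRing.Defs
import Mathlib.RingTheory.MvPolynomial.Homogeneous
import Mathlib.RingTheory.KrullDimension.Polynomial
import Mathlib.RingTheory.KrullDimension.NonZeroDivisors
import Mathlib.RingTheory.Ideal.KrullsHeightTheorem
import Mathlib.LinearAlgebra.Dimension.Finite
import Mathlib.RingTheory.Adjoin.Basic

/-!
# A graded subalgebra regular at the vertex is a polynomial ring
-/

open MvPolynomial

universe u

namespace Groth.Agent.PsRefl28

variable {k : Type u} [Field k] {ι : Type u}

lemma aeval_zero_homogeneousComponent {e : ℕ} (he : e ≠ 0) (f : MvPolynomial ι k) :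
    aeval (0 : ι → k) (homogeneousComponent e f) = 0 := by
  rw [MvPolynomial.aeval_zero]
  have : constantCoeff (homogeneousComponent e f) = 0 := by
    rw [constantCoeff_eq, coeff_homogeneousComponent, if_neg]
    simpa using he.symm
  simp [this]

lemma homogeneousComponent_zero' (f : MvPolynomial ι k) :
    homogeneousComponent 0 f = algebraMap k _ (aeval (0 : ι → k) f) := by
  rw [homogeneousComponent_zero, MvPolynomial.aeval_zero, MvPolynomial.algebraMap_eq, constantCoeff_eq]
  rfl

lemma homogeneousComponent_mul_mem (K : Subalgebra k (MvPolynomial ι k)) (a b : MvPolynomial ι k) (e : ℕ)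
    (h : ∀ i j, i + j = e → homogeneousComponent i a * homogeneousComponent j b ∈ K) :
    homogeneousComponent e (a * b) ∈ K := by
  conv in a * b => rw [← sum_homogeneousComponent a, ← sum_homogeneousComponent b]
  rw [Finset.sum_mul, map_sum]
  refine sum_mem fun i _ => ?_
  rw [Finset.mul_sum, map_sum]
  refine sum_mem fun j _ => ?_
  rw [homogeneousComponent_of_mem ((mem_homogeneousSubmodule _ _).2
    ((homogeneousComponent_isHomogeneous i a).mul (homogeneousComponent_isHomogeneous j b)))]
  split_ifs with he
  · exact h i j he.symm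
  · exact zero_mem _

variable (S : Subalgebra k (MvPolynomial ι k))

/-- The vertex of a subalgebra. -/
noncomputable abbrev vertex : Ideal S := RingHom.ker ((aeval (0 : ι → k)).comp S.val)

variable {S}

/-- Graded Nakayama. -/
lemma eq_adjoin (hS : ∀ e f, f ∈ S → homogeneousComponent e f ∈ S) (B : Set S)
    (hBn : ∀ b ∈ B, b ∈ vertex S) (hBhom : ∀ b ∈ B, ∃ d, ((b : MvPolynomial ι k)).IsHomogeneous d)
    (hB : vertex S ≤ Ideal.span B ⊔ vertex S * vertex S) :
    ∀ e, ∀ a : S, homogeneousComponent e (a : MvPolynomial ι k) ∈ Algebra.adjoin k (Subtype.val '' B) := by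
  intro e
  induction e using Nat.strong_induction_on with
  | _ e ih =>
    intro a
    rcases Nat.eq_zero_or_pos e with rfl | he
    · rw [homogeneousComponent_zero']; exact Subalgebra.algebraMap_mem _ _
    set K := Algebra.adjoin k (Subtype.val '' B) with hK
    have key : ∀ q ∈ Ideal.span B ⊔ vertex S * vertex S, homogeneousComponent e (q : MvPolynomial ι k) ∈ K := by
      have hzero : ∀ p ∈ vertex S, homogeneousComponent 0 (p : MvPolynomial ι k) = 0 := fun p hp => by
        rw [homogeneousComponent_zero', show aeval (0 : ι → k) (p : MvPolynomial ι k) = 0 from hp, map_zero]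
      have hjb : ∀ b ∈ B, ∀ j, homogeneousComponent j (b : MvPolynomial ι k) ∈ K := fun b hb j => by
        obtain ⟨d, hd⟩ := hBhom b hb
        rw [homogeneousComponent_of_mem ((mem_homogeneousSubmodule _ _).2 hd)]
        split_ifs
        · exact Algebra.subset_adjoin ⟨b, hb, rfl⟩
        · exact zero_mem _
      intro q hq
      obtain ⟨l, hl, r, hr, rfl⟩ := Submodule.mem_sup.1 hq
      clear hq
      rw [Subalgebra.coe_add, map_add]
      refine add_mem ?_ ?_
      · induction hl using Submodule.span_induction with
        | mem b hb => exact hjb b hb e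
        | zero => simp
        | add p q _ _ hp hq => rw [Subalgebra.coe_add, map_add]; exact add_mem hp hq
        | smul c p hp' hp =>
          rw [smul_eq_mul, Subalgebra.coe_mul]
          refine homogeneousComponent_mul_mem K _ _ _ fun i j hij => ?_
          rcases Nat.eq_zero_or_pos j with rfl | hj
          · rw [hzero p ((Ideal.span_le.2 hBn) hp'), mul_zero]; exact zero_mem _
          rcases Nat.eq_zero_or_pos i with rfl | hi
          · rw [zero_add] at hij
            subst hij
            rw [homogeneousComponent_zero']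
            exact mul_mem (Subalgebra.algebraMap_mem _ _) hp
          · exact mul_mem (ih i (by omega) c) (ih j (by omega) p)
      · induction hr using Submodule.mul_induction_on' with
        | mem_mul_mem p hp q hq =>
          rw [Subalgebra.coe_mul]
          refine homogeneousComponent_mul_mem K _ _ _ fun i j hij => ?_
          rcases Nat.eq_zero_or_pos i with rfl | hi
          · rw [hzero p hp, zero_mul]; exact zero_mem _
          rcases Nat.eq_zero_or_pos j with rfl | hj
          · rw [hzero q hq, mul_zero]; exact zero_mem _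
          exact mul_mem (ih i (by omega) p) (ih j (by omega) q)
        | add p _ q _ hp hq => rw [Subalgebra.coe_add, map_add]; exact add_mem hp hq
    have hmem : a - algebraMap k S (aeval (0 : ι → k) (a : MvPolynomial ι k)) ∈ vertex S := by
      simp [RingHom.mem_ker]
    have := key _ (hB hmem)
    rw [Subalgebra.coe_sub, map_sub, Subalgebra.coe_algebraMap, MvPolynomial.algebraMap_eq,
      homogeneousComponent_of_mem ((mem_homogeneousSubmodule _ _).2 (isHomogeneous_C ι _)), if_neg he.ne', sub_zero] at this
    exact this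

lemma exists_homogeneous_generators (hS : ∀ e f, f ∈ S → homogeneousComponent e f ∈ S) [IsNoetherianRing S] :
    ∃ G : Set S, Ideal.span G = vertex S ∧ ∀ g ∈ G, ∃ d, ((g : MvPolynomial ι k)).IsHomogeneous d := by
  classical
  refine ⟨{g | g ∈ vertex S ∧ ∃ d, ((g : MvPolynomial ι k)).IsHomogeneous d}, le_antisymm
    (Ideal.span_le.2 fun g hg => hg.1) ?_, fun g hg => hg.2⟩
  intro f hf
  have he : f = ∑ e ∈ Finset.range ((f : MvPolynomial ι k).totalDegree + 1),
      (⟨homogeneousComponent e (f : MvPolynomial ι k), hS e _ f.2⟩ : S) := Subtype.ext (by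
    push_cast
    exact (sum_homogeneousComponent _).symm)
  rw [he]
  refine sum_mem fun e _ => Ideal.subset_span ⟨?_, e, homogeneousComponent_isHomogeneous _ _⟩
  rcases eq_or_ne e 0 with rfl | hne
  · show aeval (0 : ι → k) (homogeneousComponent 0 (f : MvPolynomial ι k)) = 0
    rw [homogeneousComponent_zero', show aeval (0 : ι → k) (f : MvPolynomial ι k) = 0 from hf, map_zero, map_zero]
  · exact aeval_zero_homogeneousComponent hne _

/-- A regular system of parameters extracted from any generating set. -/
lemma exists_span_range_eq_maximalIdeal (T : Type u) [CommRing T] [IsRegularLocalRing T] (G : Set T)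
    (hG : Ideal.span G = IsLocalRing.maximalIdeal T) :
    ∃ (d : ℕ) (B : Fin d → T), (∀ i, B i ∈ G) ∧ Ideal.span (Set.range B) = IsLocalRing.maximalIdeal T ∧
      ringKrullDim T = (d : ℕ) := by
  classical
  let m := IsLocalRing.maximalIdeal T
  let G' : Set m := {z | (z : T) ∈ G}
  have hGm : G ⊆ m := fun g hg => hG.le (Ideal.subset_span hg)
  have hspanG' : Submodule.span T G' = ⊤ := by
    refine Submodule.map_injective_of_injective (Submodule.injective_subtype _) ?_
    rw [Submodule.map_subtype_top, Submodule.map_span,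
      show (Submodule.subtype m) '' G' = G from Set.ext fun g =>
        ⟨by rintro ⟨y, hy, rfl⟩; exact hy, fun hg => ⟨⟨g, hGm hg⟩, hg, rfl⟩⟩]
    exact hG
  obtain ⟨b, hb, hbspan, hbli⟩ := exists_linearIndependent (IsLocalRing.ResidueField T) (m.toCotangent '' G')
  rw [IsLocalRing.CotangentSpace.span_image_eq_top_iff.2 hspanG'] at hbspan
  let basis := Module.Basis.mk hbli (by rw [Subtype.range_coe_subtype, Set.ofPred_mem_eq, hbspan])
  haveI : Fintype b := @Fintype.ofFinite _ (Module.Finite.finite_basis basis)
  let e := (Fintype.equivFin b).symm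
  choose g hg hgψ using hb
  refine ⟨Fintype.card b, fun i => (g (e i).2 : T), fun i => hg (e i).2, ?_, ?_⟩
  · have h1 : Submodule.span T (Set.range fun i => g (e i).2) = ⊤ := by
      rw [← IsLocalRing.CotangentSpace.span_image_eq_top_iff, ← hbspan]
      refine congrArg _ (Set.ext fun z => ⟨?_, fun hz => ?_⟩)
      · rintro ⟨_, ⟨i, rfl⟩, rfl⟩
        exact (hgψ (e i).2).symm ▸ (e i).2
      · refine ⟨_, ⟨e.symm ⟨z, hz⟩, rfl⟩, ?_⟩
        simp only [Equiv.apply_symm_apply]
        exact hgψ hz
    have h2 := congrArg (Submodule.map (Submodule.subtype _)) h1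
    rw [Submodule.map_subtype_top, Submodule.map_span, ← Set.range_comp] at h2
    exact h2
  · rw [← IsRegularLocalRing.spanFinrank_maximalIdeal (R := T), IsLocalRing.spanFinrank_maximalIdeal_eq_finrank_cotangentSpace,
      Module.finrank_eq_card_basis basis]

theorem exists_algEquiv_mvPolynomial (hS : ∀ e f, f ∈ S → homogeneousComponent e f ∈ S) [IsNoetherianRing S]
    [(vertex S).IsPrime] [IsRegularLocalRing (Localization.AtPrime (vertex S))] :
    ∃ m : ℕ, Nonempty (↥S ≃ₐ[k] MvPolynomial (Fin m) k) := by
  classical
  obtain ⟨G, hGspan, hGhom⟩ := exists_homogeneous_generators hS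
  let Sn := Localization.AtPrime (vertex S)
  obtain ⟨d, B₀, hB₀, htop₀, hdimn⟩ := exists_span_range_eq_maximalIdeal Sn (algebraMap S Sn '' G)
    (by rw [← Ideal.map_span, hGspan, Localization.AtPrime.map_eq_maximalIdeal])
  choose B hBmem hBeq using hB₀
  have htop : (Ideal.span (Set.range B)).map (algebraMap S Sn) = IsLocalRing.maximalIdeal Sn := by
    rw [Ideal.map_span, ← Set.range_comp, show algebraMap S Sn ∘ B = B₀ from funext hBeq, htop₀]
  have hGn : G ⊆ vertex S := fun g hg => hGspan ▸ Ideal.subset_span hg
  have hspanB : vertex S ≤ Ideal.span (Set.range B) ⊔ vertex S * vertex S := by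
    intro f hf
    have hfmap : algebraMap S Sn f ∈ (Ideal.span (Set.range B)).map (algebraMap S Sn) := by
      rw [htop, ← Localization.AtPrime.map_eq_maximalIdeal]; exact Ideal.mem_map_of_mem _ hf
    obtain ⟨s, hs, hsf⟩ := (IsLocalization.algebraMap_mem_map_algebraMap_iff (vertex S).primeCompl Sn _ f).1 hfmap
    obtain ⟨c, hc'⟩ : ∃ c, aeval (0 : ι → k) (s : MvPolynomial ι k) = c := ⟨_, rfl⟩
    have hc : c ≠ 0 := fun h => hs (show aeval (0 : ι → k) (s : MvPolynomial ι k) = 0 from hc'.trans h)
    have hsc : s - algebraMap k S c ∈ vertex S := by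
      rw [RingHom.mem_ker, map_sub, AlgHom.commutes, sub_eq_zero]
      exact hc'
    have : algebraMap k S c * f ∈ Ideal.span (Set.range B) ⊔ vertex S * vertex S := by
      rw [show algebraMap k S c * f = s * f - (s - algebraMap k S c) * f by ring]
      exact sub_mem (Ideal.mem_sup_left hsf) (Ideal.mem_sup_right (Ideal.mul_mem_mul hsc hf))
    rw [show f = algebraMap k S c⁻¹ * (algebraMap k S c * f) by
      rw [← mul_assoc, ← map_mul, inv_mul_cancel₀ hc, map_one, one_mul]]
    exact Ideal.mul_mem_left _ _ this
  have hgen := eq_adjoin hS (Set.range B) (by rintro _ ⟨i, rfl⟩; exact hGn (hBmem i))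
    (by rintro _ ⟨i, rfl⟩; exact hGhom _ (hBmem i)) hspanB
  let φ : MvPolynomial (Fin d) k →ₐ[k] S := aeval B
  have hφ : Function.Surjective φ := by
    intro a
    have ha : (a : MvPolynomial ι k) ∈ Algebra.adjoin k (Subtype.val '' Set.range B) := by
      rw [← sum_homogeneousComponent (a : MvPolynomial ι k)]
      exact sum_mem fun i _ => hgen i a
    rw [← Set.range_comp, Algebra.adjoin_range_eq_range_aeval] at ha
    obtain ⟨p, hp⟩ := ha
    have he : S.val.comp φ = aeval (Subtype.val ∘ B) := algHom_ext fun i => by simp [φ]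
    exact ⟨p, Subtype.ext ((AlgHom.congr_fun he p).trans hp)⟩
  refine ⟨_, ⟨(AlgEquiv.ofBijective φ ⟨?_, hφ⟩).symm⟩⟩
  rw [injective_iff_map_eq_zero]
  intro p hp
  by_contra hne
  have h1 : ringKrullDim (MvPolynomial (Fin d) k ⧸ RingHom.ker φ.toRingHom) + 1 ≤ ringKrullDim (MvPolynomial (Fin d) k) :=
    (add_le_add_left (ringKrullDim_le_of_surjective (Ideal.Quotient.factor
      ((Ideal.span_singleton_le_iff_mem _).2 (show p ∈ RingHom.ker φ.toRingHom from hp))) (Ideal.Quotient.factor_surjective _)) 1).trans
      (ringKrullDim_quotient_succ_le_of_nonZeroDivisor (mem_nonZeroDivisors_of_ne_zero hne))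
  rw [ringKrullDim_eq_of_ringEquiv (RingHom.quotientKerEquivOfSurjective (f := φ.toRingHom) hφ),
    MvPolynomial.ringKrullDim_of_isNoetherianRing, ringKrullDim_eq_zero_of_field, zero_add, Nat.card_eq_fintype_card,
    Fintype.card_fin] at h1
  have h2 : ringKrullDim Sn ≤ ringKrullDim S := by
    rw [IsLocalization.AtPrime.ringKrullDim_eq_height (vertex S) Sn]
    exact Ideal.height_le_ringKrullDim_of_ne_top Ideal.IsPrime.ne_top'
  rw [hdimn] at h2
  have h3 := (add_le_add_left h2 1).trans h1
  exact absurd h3 (by exact_mod_cast (Nat.lt_succ_self _).not_ge)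

end Groth.Agent.PsRefl28
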