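import Groth.Agent.Lib.PsRefl28.Flat
import Groth.Agent.Lib.FinGrpInv.Main
import Mathlib.RingTheory.LocalRing.Module
import Mathlib.RingTheory.RingHom.Flat
import Mathlib.LinearAlgebra.LinearIndependent.Defs

/-!
# Freeness over the local ring of invariants
-/

open TensorProduct HopfRep
open scoped TensorProduct

universe u

namespace Groth.Agent.PsRefl28

variable {k : Type u} [Field k] {R : Type u} [CommRing R] [Algebra k R]
variable {A : Type u} [CommRing A] [HopfAlgebra k A] [Module.Finite k A] [Comod k A R] [GLin.IsCoactAlg k A R]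

lemma hmulCoact (a b : R) : Comod.coact (k := k) (A := A) (a * b) =
    Comod.coact (k := k) (A := A) a * Comod.coact (k := k) (A := A) b := GLin.IsCoactAlg.coact_mul a b

lemma honeCoact : Comod.coact (k := k) (A := A) (1 : R) = 1 := by
  rw [← GLin.coactAlgHom_apply, map_one]

variable (x : R →ₐ[k] k) (hx : GLin.IsFixedPt k A x)

include hx in
/-- The fixed point is the only prime over its image. -/
lemma eq_ker_of_comap_eq (q : Ideal R) [q.IsPrime]
    (h : q.comap (algebraMap (GLin.invariants k A R) R) = invKer x) : q = RingHom.ker x := by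
  have := (isMaximal_ker x).isPrime
  obtain ⟨Q, hQ, hQs, hQt⟩ := FinGrpInv.exists_prime_of_comap_eq
    (FinGrpInv.isCoaction_coactHom (hmulCoact (k := k) (A := A)) honeCoact)
    (GLin.invariants k A R) (GLin.mem_invariants_iff k A R) (RingHom.ker x) q
    ((show (RingHom.ker x).comap (algebraMap (GLin.invariants k A R) R) = invKer x from rfl).trans h.symm)
  refine ((isMaximal_ker x).eq_of_le ‹q.IsPrime›.ne_top fun r hr => ?_).symm
  rw [← hQt, Ideal.mem_comap]
  have h1 : (RingHom.ker x).map (Algebra.TensorProduct.includeLeft : R →ₐ[k] R ⊗[k] A) ≤ Q :=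
    Ideal.map_le_iff_le_comap.2 hQs.ge
  exact h1 (coact_mem_map x hx hr)

include hx in
lemma exists_mul_mem_invariants [Algebra.FiniteType k R] [(invKer (A := A) x).IsPrime] {s : R}
    (hs : s ∉ RingHom.ker x) :
    ∃ v : GLin.invariants k A R, v ∉ invKer x ∧ s ∣ (v : R) := by
  have := FinGrpInv.moduleFinite (hmulCoact (k := k) (A := A)) honeCoact
    (GLin.invariants k A R) (GLin.mem_invariants_iff k A R)
  by_contra hall
  push Not at hall
  obtain ⟨q, hle, hq, hqc⟩ := Ideal.exists_ideal_over_prime_of_isIntegral (invKer x) (Ideal.span {s})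
    (fun v hv => by_contra fun hv' => hall v hv' (Ideal.mem_span_singleton.1 hv))
  exact hs ((eq_ker_of_comap_eq x hx q hqc) ▸ hle (Ideal.mem_span_singleton_self s))

include hx in
lemma map_invKer_sup_pow [Algebra.FiniteType k R] :
    ∃ D : ℕ, (invKer (A := A) x).map (algebraMap (GLin.invariants k A R) R) ⊔ RingHom.ker x ^ D =
      (invKer x).map (algebraMap (GLin.invariants k A R) R) := by
  have : IsNoetherianRing R := Algebra.FiniteType.isNoetherianRing k R
  have hmax : (invKer (A := A) x).IsMaximal :=
    RingHom.ker_isMaximal_of_surjective _ fun c => ⟨algebraMap k _ c, by simp⟩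
  obtain ⟨D, hD⟩ := Ideal.exists_pow_le_of_le_radical_of_fg
    (I := RingHom.ker x) (J := (invKer (A := A) x).map (algebraMap (GLin.invariants k A R) R)) (by
      rw [Ideal.radical_eq_sInf]
      refine le_sInf fun q hq => ?_
      have := hq.2
      rw [eq_ker_of_comap_eq x hx q (hmax.eq_of_le (hq.2.comap _).ne_top (Ideal.map_le_iff_le_comap.1 hq.1)).symm])
    (IsNoetherian.noetherian _)
  exact ⟨D, sup_eq_left.2 hD⟩

variable [hp : (RingHom.ker x).IsPrime] [hn : (invKer (A := A) x).IsPrime]

/-- The structure map of the local rings. -/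
noncomputable abbrev locMap : Localization.AtPrime (invKer (A := A) x) →+* Localization.AtPrime (RingHom.ker x) :=
  Localization.localRingHom (invKer (A := A) x) (RingHom.ker x) (algebraMap (GLin.invariants k A R) R) rfl

include hx in
/-- The local ring of the space is flat over the local ring of the quotient. -/
theorem flat_locMap [Algebra.FiniteType k R] [IsDomain (Localization.AtPrime (RingHom.ker x))]
    (hG : HopfRep.IsLinearlyReductive k A)
    (hsub : ∀ (I : Ideal A) [I.IsHopfIdeal k], HopfRep.IsLinearlyReductive k (A ⧸ I))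
    (hgen : GLin.IsGenByPseudoReflAt k A R x) :
    (locMap (A := A) x).Flat := by
  classical
  have : IsNoetherianRing R := Algebra.FiniteType.isNoetherianRing k R
  have := FinGrpInv.moduleFinite (hmulCoact (k := k) (A := A)) honeCoact
    (GLin.invariants k A R) (GLin.mem_invariants_iff k A R)
  let S := GLin.invariants k A R
  let Sn := Localization.AtPrime (invKer (A := A) x)
  let Rm := Localization.AtPrime (RingHom.ker x)
  algebraize [locMap (A := A) x]
  have hmap : ∀ c : S, algebraMap Sn Rm (algebraMap S Sn c) = algebraMap R Rm (c : R) := fun c =>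
    Localization.localRingHom_to_map _ _ _ rfl c
  -- generators
  have hspan : ∃ G : Finset R, Submodule.span Sn (algebraMap R Rm '' (G : Set R)) = ⊤ := by
    obtain ⟨G, hG'⟩ := Module.Finite.fg_top (R := S) (M := R)
    refine ⟨G, eq_top_iff.2 fun y _ => ?_⟩
    have himg : ∀ r : R, algebraMap R Rm r ∈ Submodule.span Sn (algebraMap R Rm '' (G : Set R)) := by
      intro r
      have hr : r ∈ Submodule.span S (G : Set R) := hG' ▸ Submodule.mem_top
      induction hr using Submodule.span_induction with
      | mem r hr => exact Submodule.subset_span ⟨r, hr, rfl⟩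
      | zero => rw [map_zero]; exact zero_mem _
      | add a b _ _ ha hb => rw [map_add]; exact add_mem ha hb
      | smul c a _ ha =>
        rw [Algebra.smul_def, map_mul, show algebraMap S R c = (c : R) from rfl, ← hmap, ← Algebra.smul_def]
        exact Submodule.smul_mem _ _ ha
    obtain ⟨⟨r, ⟨s, hs⟩⟩, hy⟩ := IsLocalization.surj (RingHom.ker x).primeCompl y
    obtain ⟨v, hv, r', hr'⟩ := exists_mul_mem_invariants (A := A) x hx hs
    have hu := IsLocalization.map_units Sn (⟨v, hv⟩ : (invKer (A := A) x).primeCompl)
    have : algebraMap S Sn v • y = algebraMap R Rm (r * r') := by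
      rw [Algebra.smul_def, hmap, hr', map_mul, map_mul]
      simp only at hy
      rw [← hy]; ring
    rw [← one_smul Sn y, ← hu.val_inv_mul, mul_smul, this]
    exact Submodule.smul_mem _ _ (himg _)
  obtain ⟨F, hF, hFmin⟩ : ∃ G : Finset R, Submodule.span Sn (algebraMap R Rm '' (G : Set R)) = ⊤ ∧
      ∀ f ∈ G, Submodule.span Sn (algebraMap R Rm '' (↑(G.erase f) : Set R)) ≠ ⊤ := by
    obtain ⟨G₀, hG₀⟩ := hspan
    induction G₀ using Finset.strongInduction with
    | H G ih =>
      by_cases hall : ∀ f ∈ G, Submodule.span Sn (algebraMap R Rm '' (↑(G.erase f) : Set R)) ≠ ⊤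
      · exact ⟨G, hG₀, hall⟩
      · push Not at hall
        obtain ⟨f, hf, hf'⟩ := hall
        exact ih _ (Finset.erase_ssubset hf) hf'
  have : Module.Finite Sn Rm := ⟨(Submodule.fg_def.2 ⟨_, (F.finite_toSet).image _, hF⟩)⟩
  -- relations
  have main : ∀ (T : Finset R) (h : R → S) (g : R → R) (v : S), T ⊆ F → v ∉ invKer x →
      (∀ f ∈ T, algebraMap R Rm (g f - (v : R) * f) ∈
        Submodule.span Sn (algebraMap R Rm '' (↑(F \ T) : Set R))) →
      ∑ f ∈ T, g f * (h f : R) = 0 → ∀ f ∈ T, algebraMap S Sn (h f) = 0 := by
    intro T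
    induction T using Finset.strongInduction with
    | H T ih =>
      intro h g v hT hv hg hsum f hf
      by_cases hex : ∃ i ∈ T, ∃ u : S, u ∉ invKer x ∧ u * h i ∈ Ideal.span (h '' ↑(T.erase i))
      · obtain ⟨i, hi, u, hu, hmem⟩ := hex
        rw [← Finset.coe_image] at hmem
        obtain ⟨c, hc⟩ : ∃ c : R → S, u * h i = ∑ j ∈ T.erase i, c j * h j := by
          rw [Finset.coe_image] at hmem
          obtain ⟨l, hl, hl'⟩ := (Finsupp.mem_span_image_iff_linearCombination S).1 hmem
          refine ⟨l, hl'.symm.trans ?_⟩
          rw [Finsupp.linearCombination_apply, Finsupp.sum]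
          exact Finset.sum_subset (fun j hj => hl hj) fun j _ hj => by
            rw [Finsupp.notMem_support_iff.1 hj, zero_smul]
        have h0 : ∀ j ∈ T.erase i, algebraMap S Sn (h j) = 0 := by
          refine ih _ (Finset.erase_ssubset hi) h (fun j => (u : R) * g j + (c j : R) * g i) (u * v)
            ((Finset.erase_subset _ _).trans hT) (fun hm => (hn.mem_or_mem hm).elim hu hv) ?_ ?_
          · intro j hj
            have hsub' : Submodule.span Sn (algebraMap R Rm '' (↑(F \ T) : Set R)) ≤
                Submodule.span Sn (algebraMap R Rm '' (↑(F \ T.erase i) : Set R)) :=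
              Submodule.span_mono (Set.image_mono (Finset.coe_subset.2
                (Finset.sdiff_subset_sdiff subset_rfl (Finset.erase_subset _ _))))
            have hi' : algebraMap R Rm i ∈ Submodule.span Sn (algebraMap R Rm '' (↑(F \ T.erase i) : Set R)) :=
              Submodule.subset_span ⟨i, Finset.mem_sdiff.2 ⟨hT hi, Finset.notMem_erase i T⟩, rfl⟩
            rw [show (u : R) * g j + (c j : R) * g i - ((u * v : S) : R) * j =
              (u : R) * (g j - (v : R) * j) + ((c j : R) * (g i - (v : R) * i) + ((c j * v : S) : R) * i) by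
                push_cast; ring, map_add, map_add]
            simp only [map_mul, ← hmap, ← Algebra.smul_def]
            exact add_mem (Submodule.smul_mem _ _ (hsub' (hg j (Finset.mem_of_mem_erase hj))))
              (add_mem (Submodule.smul_mem _ _ (hsub' (hg i hi)))
                (Submodule.smul_mem _ _ hi'))
          · rw [← Finset.add_sum_erase T _ hi] at hsum
            have hc' : (u : R) * (h i : R) = ∑ j ∈ T.erase i, (c j : R) * (h j : R) := by
              have := congrArg Subtype.val hc
              push_cast at this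
              exact this
            calc ∑ j ∈ T.erase i, ((u : R) * g j + (c j : R) * g i) * (h j : R)
                = (u : R) * (∑ j ∈ T.erase i, g j * (h j : R)) + g i * ∑ j ∈ T.erase i, (c j : R) * (h j : R) := by
                  rw [Finset.mul_sum, Finset.mul_sum, ← Finset.sum_add_distrib]
                  exact Finset.sum_congr rfl fun j _ => by ring
              _ = (u : R) * (g i * (h i : R) + ∑ j ∈ T.erase i, g j * (h j : R)) := by rw [← hc']; ring
              _ = 0 := by rw [hsum, mul_zero]
        rcases eq_or_ne f i with rfl | hne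
        · have := congrArg (algebraMap S Sn) hc
          rw [map_mul, map_sum, Finset.sum_eq_zero fun j hj => by rw [map_mul, h0 j hj, mul_zero]] at this
          exact (IsLocalization.map_units Sn (⟨u, hu⟩ : (invKer (A := A) x).primeCompl)).mul_right_eq_zero.1 this
        · exact h0 f (Finset.mem_erase.2 ⟨hne, hf⟩)
      · push Not at hex
        exfalso
        obtain ⟨D, hD⟩ := map_invKer_sup_pow (A := A) x hx
        have hJ : g f ∈ (invKer (A := A) x).map (algebraMap S R) :=
          hD ▸ mem_map_sup_pow x hx hG hsub hgen T h f hf (hex f hf) D g hsum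
        refine hFmin f (hT hf) (eq_top_iff.2 ?_)
        refine Submodule.le_of_le_smul_of_le_jacobson_bot (I := IsLocalRing.maximalIdeal Sn) Module.Finite.fg_top
          (IsLocalRing.maximalIdeal_le_jacobson _) ?_
        have hJ' : algebraMap R Rm (g f) ∈ IsLocalRing.maximalIdeal Sn • (⊤ : Submodule Sn Rm) := by
          rw [Ideal.smul_top_eq_map, Submodule.restrictScalars_mem, ← Localization.AtPrime.map_eq_maximalIdeal,
            Ideal.map_map, show (algebraMap Sn Rm).comp (algebraMap S Sn) = (algebraMap R Rm).comp (algebraMap S R)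
              from RingHom.ext hmap, ← Ideal.map_map]
          exact Ideal.mem_map_of_mem _ hJ
        have hle : Submodule.span Sn (algebraMap R Rm '' (↑(F \ T) : Set R)) ≤
            Submodule.span Sn (algebraMap R Rm '' (↑(F.erase f) : Set R)) := by
          refine Submodule.span_mono (Set.image_mono (Finset.coe_subset.2 fun j hj => ?_))
          obtain ⟨hj1, hj2⟩ := Finset.mem_sdiff.1 hj
          exact Finset.mem_erase.2 ⟨fun he => hj2 (he ▸ hf), hj1⟩
        have hfmem : algebraMap R Rm f ∈ Submodule.span Sn (algebraMap R Rm '' (↑(F.erase f) : Set R)) ⊔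
            IsLocalRing.maximalIdeal Sn • (⊤ : Submodule Sn Rm) := by
          have hu := IsLocalization.map_units Sn (⟨v, hv⟩ : (invKer (A := A) x).primeCompl)
          refine (Submodule.smul_mem_iff_of_isUnit _ hu).1 ?_
          rw [Algebra.smul_def, hmap, ← map_mul, show (v : R) * f = g f - (g f - (v : R) * f) by ring, map_sub]
          exact sub_mem (Submodule.mem_sup_right hJ') (Submodule.mem_sup_left (hle (hg f hf)))
        refine hF.ge.trans (Submodule.span_le.2 ?_)
        rintro _ ⟨j, hj, rfl⟩
        rcases eq_or_ne j f with rfl | hne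
        · exact hfmem
        · exact Submodule.mem_sup_left (Submodule.subset_span ⟨j, Finset.mem_erase.2 ⟨hne, hj⟩, rfl⟩)
  have hli : LinearIndependent Sn (fun f : F => algebraMap R Rm (f : R)) := by
    rw [Fintype.linearIndependent_iff]
    intro a ha f
    obtain ⟨b, hb⟩ := IsLocalization.exist_integer_multiples_of_finite (invKer (A := A) x).primeCompl a
    choose h hh using hb
    have hsum : algebraMap R Rm (∑ f : F, (f : R) * (h f : R)) = 0 := by
      rw [map_sum]
      have := congrArg (algebraMap S Sn (b : S) • ·) ha
      simp only [smul_zero, Finset.smul_sum, smul_smul] at this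
      refine Eq.trans (Finset.sum_congr rfl fun f _ => ?_) this
      rw [map_mul, ← hmap, mul_comm, ← Algebra.smul_def, hh f, Algebra.smul_def (b : S) (a f)]
    obtain ⟨⟨s, hs⟩, hs0⟩ := (IsLocalization.map_eq_zero_iff (RingHom.ker x).primeCompl Rm _).1 hsum
    obtain ⟨v, hv, r', hr'⟩ := exists_mul_mem_invariants (A := A) x hx hs
    let h' : R → S := fun r => if hr : r ∈ F then h ⟨r, hr⟩ else 0
    have hv0 : (v : R) * ∑ f : F, (f : R) * (h f : R) = 0 := by
      rw [hr', mul_comm s r', mul_assoc]
      simp only at hs0
      rw [hs0, mul_zero]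
    have := main F h' (fun r => (v : R) * r) v subset_rfl hv (fun j _ => by rw [sub_self, map_zero]; exact zero_mem _) (by
      refine Eq.trans ?_ hv0
      rw [Finset.mul_sum, ← Finset.sum_coe_sort F]
      exact Finset.sum_congr rfl fun j _ => by simp [h', mul_assoc]) f f.2
    simp only [h', f.2, ↓reduceDIte, Subtype.coe_eta] at this
    rw [hh f, Algebra.smul_def] at this
    exact (IsLocalization.map_units Sn b).mul_right_eq_zero.1 this
  have : Module.Free Sn Rm := Module.Free.of_basis (Module.Basis.mk hli
    (hF.ge.trans (Submodule.span_mono (by rintro _ ⟨j, hj, rfl⟩; exact ⟨⟨j, hj⟩, rfl⟩))))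
  exact (inferInstance : Module.Flat Sn Rm)

include hx in
/-- The invariants are regular at the image of the fixed point. -/
theorem isRegularLocalRing_invariants [Algebra.FiniteType k R]
    [IsRegularLocalRing (Localization.AtPrime (RingHom.ker x))]
    (hG : HopfRep.IsLinearlyReductive k A)
    (hsub : ∀ (I : Ideal A) [I.IsHopfIdeal k], HopfRep.IsLinearlyReductive k (A ⧸ I))
    (hgen : GLin.IsGenByPseudoReflAt k A R x) :
    IsRegularLocalRing (Localization.AtPrime (invKer (A := A) x)) := by
  have := RegLoc.isDomain (Localization.AtPrime (RingHom.ker x))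
  have := FinGrpInv.isNoetherianRing_invariants (hmulCoact (k := k) (A := A)) honeCoact
    (GLin.invariants k A R) (GLin.mem_invariants_iff k A R)
  have hflat := flat_locMap x hx hG hsub hgen
  algebraize [locMap (A := A) x]
  have : IsLocalHom (algebraMap (Localization.AtPrime (invKer (A := A) x)) (Localization.AtPrime (RingHom.ker x))) :=
    Localization.isLocalHom_localRingHom (invKer (A := A) x) (RingHom.ker x) (algebraMap (GLin.invariants k A R) R) rfl
  have : IsNoetherianRing (Localization.AtPrime (invKer (A := A) x)) :=
    IsLocalization.isNoetherianRing (invKer (A := A) x).primeCompl _ inferInstance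
  exact RegLoc.isRegularLocalRing_of_flat _ (Localization.AtPrime (RingHom.ker x))

end Groth.Agent.PsRefl28
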