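import Groth.Agent.Lib.PsRefl28.Graded
import Groth.Agent.Lib.PsRefl28.Regular
import Groth.Agent.Lib.SmoothReg17.Basic
import Groth.Agent.Lib.Comodule.CoactAlg

/-!
# The vertex of a linear action
-/

open TensorProduct HopfRep MvPolynomial
open scoped TensorProduct

universe u

namespace Groth.Agent.PsRefl28

variable {k : Type u} [Field k] {A : Type u} [CommRing A] [HopfAlgebra k A]
variable {ι : Type u} [Fintype ι] [Comod k A (MvPolynomial ι k)] [GLin.IsCoactAlg k A (MvPolynomial ι k)]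

local notation "𝟎" => (aeval (0 : ι → k) : MvPolynomial ι k →ₐ[k] k)

lemma isFixedPt_zero (hlin : GLin.IsLinear k A ι) : GLin.IsFixedPt k A 𝟎 := by
  refine algHom_ext fun i => ?_
  obtain ⟨m, hm⟩ := hlin i
  show GLin.orbitHom k A 𝟎 (X i) = algebraMap k A (𝟎 (X i))
  rw [Comodule.orbitHom_apply, hm, map_sum, map_sum]
  simp

lemma linForms_le_ker {f : MvPolynomial ι k} (hf : f ∈ GLin.linForms k ι) : f ∈ RingHom.ker 𝟎 := by
  rw [RingHom.mem_ker, ← homogeneousComponent_of_mem (m := 1) hf |>.trans (if_pos rfl)]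
  exact aeval_zero_homogeneousComponent one_ne_zero f

omit [Fintype ι] [Comod k A (MvPolynomial ι k)] [GLin.IsCoactAlg k A (MvPolynomial ι k)] in
lemma component_one_sq {f : MvPolynomial ι k} (hf : f ∈ RingHom.ker 𝟎 ^ 2) : homogeneousComponent 1 f = 0 := by
  rw [pow_two] at hf
  induction hf using Submodule.mul_induction_on' with
  | mem_mul_mem a ha b hb =>
    have h0 : ∀ c ∈ RingHom.ker 𝟎, homogeneousComponent 0 c = 0 := fun c hc => by
      rw [homogeneousComponent_zero', show 𝟎 c = 0 from hc, map_zero]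
    conv_lhs => rw [← sum_homogeneousComponent a, ← sum_homogeneousComponent b]
    rw [Finset.sum_mul, map_sum]
    refine Finset.sum_eq_zero fun i _ => ?_
    rw [Finset.mul_sum, map_sum]
    refine Finset.sum_eq_zero fun j _ => ?_
    rw [homogeneousComponent_of_mem ((mem_homogeneousSubmodule _ _).2
      ((homogeneousComponent_isHomogeneous i a).mul (homogeneousComponent_isHomogeneous j b)))]
    split_ifs with he
    · rcases (by omega : i = 0 ∨ j = 0) with rfl | rfl
      · rw [h0 a ha, zero_mul]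
      · rw [h0 b hb, mul_zero]
    · rfl
  | add a _ b _ ha hb => rw [map_add, ha, hb, add_zero]

lemma sub_component_one_mem {f : MvPolynomial ι k} (hf : f ∈ RingHom.ker 𝟎) :
    f - homogeneousComponent 1 f ∈ RingHom.ker 𝟎 ^ 2 := by
  classical
  have hpow : ∀ (e : ℕ) (g : MvPolynomial ι k), g.IsHomogeneous e → g ∈ RingHom.ker 𝟎 ^ e := by
    intro e g hg
    rw [g.as_sum]
    refine sum_mem fun n hn => ?_
    rw [monomial_eq]
    refine Ideal.mul_mem_left _ _ ?_
    rw [show e = ∑ i ∈ n.support, n i from hg.degree_eq_sum_deg_support hn]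
    simp only [Finsupp.prod]
    rw [← Finset.prod_pow_eq_pow_sum]
    exact Ideal.prod_mem_prod fun i _ => Ideal.pow_mem_pow (by simp [RingHom.mem_ker]) _
  conv in f - _ => rw [← sum_homogeneousComponent f]
  have : ∀ i, homogeneousComponent i f - (if i = 1 then homogeneousComponent 1 f else 0) ∈ RingHom.ker 𝟎 ^ 2 := by
    intro i
    rcases eq_or_ne i 0 with rfl | h0
    · rw [homogeneousComponent_zero', show 𝟎 f = 0 from hf]; simp
    rcases eq_or_ne i 1 with rfl | h1
    · simp
    rw [if_neg h1, sub_zero]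
    exact Ideal.pow_le_pow_right (by omega) (hpow i _ (homogeneousComponent_isHomogeneous i f))
  rw [map_sum, show (∑ i ∈ Finset.range (f.totalDegree + 1), homogeneousComponent 1 (homogeneousComponent i f)) =
      ∑ i ∈ Finset.range (f.totalDegree + 1), (if i = 1 then homogeneousComponent 1 f else 0) from
    Finset.sum_congr rfl fun i _ => by
      rw [homogeneousComponent_of_mem (homogeneousComponent_mem i f)]
      rcases eq_or_ne i 1 with rfl | h
      · simp
      · rw [if_neg h.symm, if_neg h], ← Finset.sum_sub_distrib]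
  exact sum_mem fun i _ => this i

lemma isPseudoReflAt_zero (hlin : GLin.IsLinear k A ι) {I : Ideal A} (h : GLin.IsPseudoRefl k A ι I) :
    GLin.IsPseudoReflAt k A (MvPolynomial ι k) 𝟎 I := by
  refine ⟨h.1, ?_⟩
  obtain ⟨mk2, hmk2⟩ : ∃ mk2, mk2 = (Ideal.Quotient.mkₐ k (RingHom.ker 𝟎 ^ 2)).toLinearMap := ⟨_, rfl⟩
  have hinj : Function.Injective (mk2.domRestrict (GLin.linForms k ι)) := by
    rw [← LinearMap.ker_eq_bot, eq_bot_iff]
    intro f hf
    refine Subtype.ext ?_
    have h1 : (f : MvPolynomial ι k) ∈ RingHom.ker 𝟎 ^ 2 :=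
      Ideal.Quotient.eq_zero_iff_mem.1 (by rw [hmk2] at hf; exact hf)
    rw [ZeroMemClass.coe_zero, ← component_one_sq h1, homogeneousComponent_of_mem f.2, if_pos rfl]
  have hmk : ∀ f ∈ RingHom.ker 𝟎, mk2 f = mk2 (homogeneousComponent 1 f) := fun f hf => by
    rw [← sub_eq_zero, ← map_sub, hmk2]
    exact Ideal.Quotient.eq_zero_iff_mem.2 (sub_component_one_mem hf)
  have hcot : GLin.cotSpace k (MvPolynomial ι k) 𝟎 = Submodule.map mk2 (GLin.linForms k ι) := by
    refine le_antisymm ?_ ?_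
    · rintro _ ⟨f, hf, rfl⟩
      rw [← hmk2]
      exact ⟨_, homogeneousComponent_mem 1 f, (hmk f hf).symm⟩
    · rintro _ ⟨f, hf, rfl⟩
      exact ⟨f, linForms_le_ker hf, by rw [hmk2]⟩
  have hfix : GLin.cotFixed k A (MvPolynomial ι k) 𝟎 I =
      Submodule.map mk2 (GLin.linForms k ι ⊓ GLin.quotInvariants k A (MvPolynomial ι k) I) := by
    refine le_antisymm ?_ ?_
    · rintro _ ⟨f, ⟨hf, hff⟩, rfl⟩
      rw [← hmk2]
      refine ⟨_, ⟨homogeneousComponent_mem 1 f, ?_⟩, (hmk f hf).symm⟩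
      show homogeneousComponent 1 f ∈ GLin.quotInvariants k A (MvPolynomial ι k) I
      rw [GLin.mem_quotInvariants_iff, Comodule.comodHom_apply (Comodule.rTensor_homogeneousComponent_coact hlin 1)]
      obtain ⟨φ, hφ⟩ : ∃ φ : (MvPolynomial ι k ⧸ RingHom.ker 𝟎 ^ 2) →ₗ[k] MvPolynomial ι k,
          ∀ g, φ (Ideal.Quotient.mkₐ k (RingHom.ker 𝟎 ^ 2) g) = homogeneousComponent 1 g :=
        by
          obtain ⟨σ, hσ⟩ := LinearMap.exists_rightInverse_of_surjective
            (Ideal.Quotient.mkₐ k (RingHom.ker 𝟎 ^ 2)).toLinearMap (LinearMap.range_eq_top.2 Ideal.Quotient.mk_surjective)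
          refine ⟨homogeneousComponent 1 ∘ₗ σ, fun g => ?_⟩
          rw [LinearMap.comp_apply, ← sub_eq_zero, ← map_sub]
          refine component_one_sq (Ideal.Quotient.eq.1 ?_)
          exact LinearMap.congr_fun hσ _
      have hc : φ ∘ₗ (Ideal.Quotient.mkₐ k (RingHom.ker 𝟎 ^ 2)).toLinearMap = homogeneousComponent 1 :=
        LinearMap.ext hφ
      have h2 := congrArg (LinearMap.rTensor (A ⧸ I) φ) hff
      simp only [LinearMap.comp_apply] at h2
      rw [← LinearMap.comp_apply, LinearMap.rTensor_comp_map, hc] at h2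
      rw [← LinearMap.comp_apply, LinearMap.lTensor_comp_rTensor]
      refine h2.trans ?_
      simp [← hφ]
    · rintro _ ⟨f, ⟨hf, hq⟩, rfl⟩
      refine ⟨f, ⟨linForms_le_ker hf, ?_⟩, by rw [hmk2]⟩
      show TensorProduct.map _ _ _ = _
      rw [← LinearMap.rTensor_comp_lTensor, LinearMap.comp_apply, (GLin.mem_quotInvariants_iff k A _ I f).1 hq]
      rfl
  have hfin : ∀ N ≤ GLin.linForms k ι, Module.finrank k ↥(Submodule.map mk2 N) = Module.finrank k ↥N := by
    intro N hN
    refine (LinearEquiv.finrank_eq (LinearEquiv.ofInjective (mk2.domRestrict N) ?_ ≪≫ₗ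
      LinearEquiv.ofEq _ _ (LinearMap.range_domRestrict N mk2))).symm
    intro a b hab
    exact Subtype.ext (Subtype.mk.inj (hinj (a₁ := ⟨a, hN a.2⟩) (a₂ := ⟨b, hN b.2⟩) hab))
  rw [hfix, hcot, hfin _ inf_le_left, hfin _ le_rfl]
  exact h.2

lemma isGenByPseudoReflAt_zero (hlin : GLin.IsLinear k A ι) (hgen : GLin.IsGenByPseudoRefl k A ι) :
    GLin.IsGenByPseudoReflAt k A (MvPolynomial ι k) 𝟎 :=
  eq_bot_iff.2 ((show GLin.genIdealAt k A (MvPolynomial ι k) 𝟎 ≤ GLin.genIdeal k A ι from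
    sSup_le fun _ hJ => le_sSup ⟨hJ.1, fun I hI => hJ.2 I (isPseudoReflAt_zero hlin hI)⟩).trans hgen.le)

lemma component_mem_invariants (hlin : GLin.IsLinear k A ι) (e : ℕ) {f : MvPolynomial ι k}
    (hf : f ∈ GLin.invariants k A (MvPolynomial ι k)) :
    homogeneousComponent e f ∈ GLin.invariants k A (MvPolynomial ι k) := by
  rw [GLin.mem_invariants_iff] at hf ⊢
  rw [Comodule.comodHom_apply (Comodule.rTensor_homogeneousComponent_coact hlin e), hf, LinearMap.rTensor_tmul]

end Groth.Agent.PsRefl28
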