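import Groth.Agent.Lib.PsRefl28.Stab
import Groth.Agent.Lib.Comodule.CoactAlg
import Groth.Agent.Lib.CoalgH23.Simple
import Mathlib.RingTheory.Ideal.Cotangent
import Mathlib.RingTheory.TensorProduct.Free
import Mathlib.LinearAlgebra.TensorProduct.RightExactness
import Mathlib.RingTheory.AdicCompletion.Noetherian
import Mathlib.RingTheory.Filtration
import Mathlib.RingTheory.LocalRing.RingHom.Basic
import Mathlib.RingTheory.RegularLocalRing.Defs

/-!
# A pseudo-reflection fixes a locally principal closed subscheme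
-/

open TensorProduct HopfRep
open scoped TensorProduct

universe u

namespace Groth.Agent.PsRefl28

variable {k : Type u} [Field k] {R : Type u} [CommRing R] [Algebra k R]

/-- Coordinates in a basis of the right factor. -/
noncomputable def comp {B : Type u} [CommRing B] [Algebra k B] {ι : Type u} (b : Module.Basis ι k B) (i : ι) :
    R ⊗[k] B →ₗ[R] R :=
  (Finsupp.lapply i).comp (Algebra.TensorProduct.basis R b).repr.toLinearMap

lemma comp_tmul {B : Type u} [CommRing B] [Algebra k B] {ι : Type u} (b : Module.Basis ι k B) (i : ι) (r : R) (x : B) :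
    comp b i (r ⊗ₜ[k] x) = b.repr x i • r := by
  simp [comp, Algebra.TensorProduct.basis_repr_tmul, Algebra.smul_def, mul_comm]

lemma mem_map_includeLeft_iff {B : Type u} [CommRing B] [Algebra k B] {ι : Type u} (b : Module.Basis ι k B)
    (K : Ideal R) (z : R ⊗[k] B) :
    z ∈ K.map (Algebra.TensorProduct.includeLeft : R →ₐ[k] R ⊗[k] B) ↔ ∀ i, comp b i z ∈ K := by
  classical
  constructor
  · intro h i
    induction h using Submodule.span_induction generalizing i with
    | mem z hz =>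
      obtain ⟨r, hr, rfl⟩ := hz
      change comp b i (r ⊗ₜ[k] (1 : B)) ∈ K
      rw [comp_tmul, Algebra.smul_def]
      exact K.mul_mem_left _ hr
    | zero => simp
    | add x y _ _ hx hy => rw [map_add]; exact add_mem (hx i) (hy i)
    | smul c x _ hx =>
      induction c with
      | zero => simp
      | add c d hc hd => rw [add_smul, map_add]; exact add_mem hc hd
      | tmul r a =>
        have hx' : x = (Algebra.TensorProduct.basis R b).repr.symm ((Algebra.TensorProduct.basis R b).repr x) :=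
          ((Algebra.TensorProduct.basis R b).repr.symm_apply_apply x).symm
        rw [hx', Module.Basis.repr_symm_apply, Finsupp.linearCombination_apply, Finsupp.sum, smul_eq_mul,
          Finset.mul_sum, map_sum]
        refine sum_mem fun j _ => ?_
        rw [Algebra.mul_smul_comm, map_smul, smul_eq_mul]
        exact K.mul_mem_right _ (hx j)
  · intro h
    rw [← (Algebra.TensorProduct.basis R b).linearCombination_repr z, Finsupp.linearCombination_apply]
    refine sum_mem fun i _ => ?_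
    show (comp b i z) • _ ∈ _
    rw [Algebra.smul_def]
    exact Ideal.mul_mem_right _ _ (Ideal.mem_map_of_mem _ (h i))

variable {A : Type u} [CommRing A] [HopfAlgebra k A] [Comod k A R] [GLin.IsCoactAlg k A R]

/-- The coaction of a closed subgroup. -/
noncomputable def coactQ (I : Ideal A) : R →ₐ[k] R ⊗[k] (A ⧸ I) :=
  (Algebra.TensorProduct.map (AlgHom.id k R) (Ideal.Quotient.mkₐ k I)).comp (GLin.coactAlgHom k A R)

lemma coactQ_apply (I : Ideal A) (f : R) :
    coactQ I f = LinearMap.lTensor R (Ideal.Quotient.mkₐ k I).toLinearMap (Comod.coact (k := k) (A := A) f) := rfl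

/-- The displacement. -/
noncomputable def disp (I : Ideal A) : R →ₗ[k] R ⊗[k] (A ⧸ I) :=
  (coactQ (k := k) (R := R) I).toLinearMap - (Algebra.TensorProduct.includeLeft : R →ₐ[k] R ⊗[k] (A ⧸ I)).toLinearMap

lemma disp_apply (I : Ideal A) (f : R) : disp I f = coactQ I f - f ⊗ₜ[k] (1 : A ⧸ I) := rfl

lemma disp_mul (I : Ideal A) (f g : R) :
    disp I (f * g) = coactQ I f * disp I g + disp I f * (g ⊗ₜ[k] (1 : A ⧸ I)) := by
  rw [disp_apply, disp_apply, disp_apply, map_mul,
    show (f * g) ⊗ₜ[k] (1 : A ⧸ I) = (f ⊗ₜ[k] 1) * (g ⊗ₜ[k] 1) by rw [Algebra.TensorProduct.tmul_mul_tmul, one_mul]]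
  ring

lemma coactQ_of_invariant (I : Ideal A) {h : R} (hh : h ∈ GLin.invariants k A R) :
    coactQ I h = h ⊗ₜ[k] (1 : A ⧸ I) := by
  rw [coactQ_apply, (GLin.mem_invariants_iff k A R h).1 hh]
  simp

lemma disp_mul_invariant (I : Ideal A) (f : R) {h : R} (hh : h ∈ GLin.invariants k A R) :
    disp I (f * h) = disp I f * (h ⊗ₜ[k] (1 : A ⧸ I)) := by
  rw [disp_mul, show disp I h = 0 by rw [disp_apply, coactQ_of_invariant I hh, sub_self], mul_zero, zero_add]

variable (x : R →ₐ[k] k) (hx : GLin.IsFixedPt k A x)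

include hx in
lemma coact_mem_map {f : R} (hf : f ∈ RingHom.ker x) :
    Comod.coact (k := k) (A := A) f ∈
      (RingHom.ker x).map (Algebra.TensorProduct.includeLeft : R →ₐ[k] R ⊗[k] A) := by
  classical
  let b := Module.Basis.ofVectorSpace k A
  rw [mem_map_includeLeft_iff b]
  intro i
  rw [RingHom.mem_ker]
  have h := AlgHom.congr_fun hx f
  have h2 : GLin.orbitHom k A x f = 0 := by rw [h, AlgHom.comp_apply, RingHom.mem_ker.1 hf, map_zero]
  have key : ∀ z : R ⊗[k] A, x (comp b i z) =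
      b.repr ((Algebra.TensorProduct.lid k A) (Algebra.TensorProduct.map x (AlgHom.id k A) z)) i := by
    intro z
    induction z with
    | zero => simp
    | add p q hp hq => simp only [map_add, Finsupp.add_apply, hp, hq]
    | tmul r a => simp [comp_tmul, mul_comm]
  rw [key]
  change b.repr (GLin.orbitHom k A x f) i = 0
  rw [h2, map_zero, Finsupp.zero_apply]

include hx in
lemma coactQ_mem_map (I : Ideal A) {f : R} {j : ℕ} (hf : f ∈ RingHom.ker x ^ j) :
    coactQ I f ∈ (RingHom.ker x ^ j).map (Algebra.TensorProduct.includeLeft : R →ₐ[k] R ⊗[k] (A ⧸ I)) := by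
  have h1 : (RingHom.ker x).map (coactQ (k := k) (R := R) I).toRingHom ≤
      (RingHom.ker x).map (Algebra.TensorProduct.includeLeft : R →ₐ[k] R ⊗[k] (A ⧸ I)) := by
    refine Ideal.map_le_iff_le_comap.2 fun g hg => ?_
    have h2 := Ideal.mem_map_of_mem (Algebra.TensorProduct.map (AlgHom.id k R) (Ideal.Quotient.mkₐ k I)).toRingHom
      (coact_mem_map x hx hg)
    have h3 : ((RingHom.ker x).map (Algebra.TensorProduct.includeLeft : R →ₐ[k] R ⊗[k] A)).map
        (Algebra.TensorProduct.map (AlgHom.id k R) (Ideal.Quotient.mkₐ k I)).toRingHom ≤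
        (RingHom.ker x).map (Algebra.TensorProduct.includeLeft : R →ₐ[k] R ⊗[k] (A ⧸ I)) := by
      refine Ideal.map_le_iff_le_comap.2 (Ideal.map_le_iff_le_comap.2 fun r hr => ?_)
      rw [Ideal.mem_comap, Ideal.mem_comap]
      have := Ideal.mem_map_of_mem (Algebra.TensorProduct.includeLeft : R →ₐ[k] R ⊗[k] (A ⧸ I)) hr
      simpa using this
    exact h3 h2
  rw [Ideal.map_pow]
  have := Ideal.mem_map_of_mem (coactQ (k := k) (R := R) I).toRingHom hf
  rw [Ideal.map_pow] at this
  exact Ideal.pow_right_mono h1 j this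

include hx in
lemma disp_mul_mem (I : Ideal A) (K : Ideal R) {a b : R} (ha : a ∈ RingHom.ker x) (hb : b ∈ RingHom.ker x)
    (hKa : disp (k := k) I a ∈ K.map (Algebra.TensorProduct.includeLeft : R →ₐ[k] R ⊗[k] (A ⧸ I)))
    (hKb : disp (k := k) I b ∈ K.map (Algebra.TensorProduct.includeLeft : R →ₐ[k] R ⊗[k] (A ⧸ I))) :
    disp (k := k) I (a * b) ∈
      (RingHom.ker x * K).map (Algebra.TensorProduct.includeLeft : R →ₐ[k] R ⊗[k] (A ⧸ I)) := by
  rw [disp_mul, Ideal.map_mul]
  refine add_mem (Ideal.mul_mem_mul ?_ hKb) ?_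
  · have h := coactQ_mem_map x hx I (j := 1) (f := a) (by rwa [pow_one])
    rwa [pow_one] at h
  · rw [mul_comm (RingHom.ker x |>.map _) (K.map _)]
    refine Ideal.mul_mem_mul hKa ?_
    exact Ideal.mem_map_of_mem (Algebra.TensorProduct.includeLeft : R →ₐ[k] R ⊗[k] (A ⧸ I)) hb

include hx in
lemma disp_mem_of_mem_sq (I : Ideal A) (L : R) (N : ℕ)
    (ih : ∀ f : R, disp (k := k) I f ∈ (Ideal.span {L} ⊔ RingHom.ker x ^ N).map
      (Algebra.TensorProduct.includeLeft : R →ₐ[k] R ⊗[k] (A ⧸ I))) {q : R} (hq : q ∈ RingHom.ker x ^ 2) :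
    disp (k := k) I q ∈ (Ideal.span {L} ⊔ RingHom.ker x ^ (N + 1)).map
      (Algebra.TensorProduct.includeLeft : R →ₐ[k] R ⊗[k] (A ⧸ I)) := by
  have hle : RingHom.ker x * (Ideal.span {L} ⊔ RingHom.ker x ^ N) ≤ Ideal.span {L} ⊔ RingHom.ker x ^ (N + 1) := by
    rw [Ideal.mul_sup, ← pow_succ']
    exact sup_le_sup_right Ideal.mul_le_right _
  rw [pow_two] at hq
  induction hq using Submodule.mul_induction_on' with
  | mem_mul_mem a ha b hb => exact Ideal.map_mono hle (disp_mul_mem x hx I _ ha hb (ih a) (ih b))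
  | add a _ b _ ha hb => rw [map_add]; exact add_mem ha hb

/-- The comodule structure of a closed subgroup. -/
@[reducible] noncomputable def quotComod (I : Ideal A) [I.IsHopfIdeal k] : Comod k (A ⧸ I) R :=
  CoalgH23.pushComod ((Bialgebra.Quotient.mkBialgHom (R := k) I : A →ₐc[k] A ⧸ I) : A →ₗc[k] A ⧸ I) inferInstance

include hx in
/-- Near `x`, the displacement by a pseudo-reflection is divisible by one element of order one. -/
theorem exists_dvd_disp [IsNoetherianRing R] (I : Ideal A)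
    [I.IsHopfIdeal k] (hI : GLin.IsPseudoReflAt k A R x I) (hLR : HopfRep.IsLinearlyReductive k (A ⧸ I))
    {ι : Type u} (b : Module.Basis ι k (A ⧸ I)) :
    ∃ L : R, L ∈ RingHom.ker x ∧ L ∉ RingHom.ker x ^ 2 ∧
      ∀ (f : R) (i : ι), ∃ u : R, x u ≠ 0 ∧ L ∣ u * comp b i (disp I f) := by
  classical
  letI C := quotComod (R := R) (k := k) I
  have hco : ∀ f : R, Comod.coact (k := k) (A := A ⧸ I) f = coactQ I f := fun f => rfl
  set m := RingHom.ker x with hm
  let mk2 := (Ideal.Quotient.mkₐ k (m ^ 2)).toLinearMap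
  have hstab : ∀ j : ℕ, IsSubcomod (k := k) (A := A ⧸ I) ((m ^ j).restrictScalars k) := by
    intro j f hf
    have h : coactQ I f ∈ ((m ^ j).map (Algebra.TensorProduct.includeLeft : R →ₐ[k] R ⊗[k] (A ⧸ I))).restrictScalars k :=
      coactQ_mem_map x hx I hf
    rw [Ideal.map_includeLeft_eq] at h
    exact h
  have hm1 : IsSubcomod (k := k) (A := A ⧸ I) (m.restrictScalars k) := by simpa using hstab 1
  obtain ⟨W₀, hW₀, hc⟩ := Comodule.exists_isCompl (V := R) hLR ((m ^ 2).restrictScalars k) (hstab 2)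
  let W : Submodule k R := W₀ ⊓ m.restrictScalars k
  have hW : IsSubcomod (k := k) (A := A ⧸ I) W := Comodule.isSubcomod_inf hW₀ hm1
  have hm2 : m ^ 2 ≤ m := Ideal.pow_le_self two_ne_zero
  have hmsplit : ∀ f ∈ m, ∃ q ∈ m ^ 2, ∃ w ∈ W, f = q + w := fun f hf => by
    obtain ⟨q, hq, w, hw, rfl⟩ := Submodule.mem_sup.1 (hc.sup_eq_top ▸ Submodule.mem_top : f ∈ (m ^ 2).restrictScalars k ⊔ W₀)
    exact ⟨q, hq, w, ⟨hw, by simpa using sub_mem (H := m) hf (hm2 hq)⟩, rfl⟩
  have hinj : Function.Injective (mk2.domRestrict W) := by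
    rw [← LinearMap.ker_eq_bot, eq_bot_iff]
    intro w hw
    exact Subtype.ext (Submodule.disjoint_def.1 hc.disjoint _
      (Ideal.Quotient.eq_zero_iff_mem.1 (show mk2 w = 0 from hw)) w.2.1)
  let Wf : Submodule k R := W ⊓ fixedPts k (A ⧸ I) R
  have hWf : IsSubcomod (k := k) (A := A ⧸ I) Wf := Comodule.isSubcomod_inf hW Comodule.isSubcomod_fixedPts
  have hfix : GLin.cotFixed k A R x I = Submodule.map mk2 Wf := by
    refine le_antisymm ?_ ?_
    · rintro _ ⟨f, ⟨hf, hff⟩, rfl⟩
      obtain ⟨q, hq, w, hw, rfl⟩ := hmsplit f hf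
      have hmk : mk2 (q + w) = mk2 w := by
        rw [map_add, show mk2 q = 0 from Ideal.Quotient.eq_zero_iff_mem.2 hq, zero_add]
      refine ⟨w, ⟨hw, ?_⟩, hmk.symm⟩
      obtain ⟨y, hy⟩ := hW w hw
      show Comod.coact (k := k) (A := A ⧸ I) w = w ⊗ₜ[k] (1 : A ⧸ I)
      rw [← hy]
      have key : y = (⟨w, hw⟩ : W) ⊗ₜ[k] (1 : A ⧸ I) := by
        apply Module.Flat.rTensor_preserves_injective_linearMap (M := A ⧸ I) _ hinj
        rw [show mk2.domRestrict W = mk2 ∘ₗ W.subtype from rfl, LinearMap.rTensor_comp_apply, hy, LinearMap.rTensor_tmul]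
        change TensorProduct.map mk2 (Ideal.Quotient.mkₐ k I).toLinearMap (Comod.coact (k := k) (A := A) (q + w)) =
          mk2 (q + w) ⊗ₜ[k] (1 : A ⧸ I) at hff
        rw [hmk, map_add, map_add] at hff
        have hq0 : TensorProduct.map mk2 (Ideal.Quotient.mkₐ k I).toLinearMap (Comod.coact (k := k) (A := A) q) = 0 := by
          have hcomp : TensorProduct.map mk2 (Ideal.Quotient.mkₐ k I).toLinearMap (Comod.coact (k := k) (A := A) q) =
              LinearMap.rTensor (A ⧸ I) mk2 (coactQ I q) := by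
            rw [coactQ_apply, ← LinearMap.comp_apply (LinearMap.rTensor _ mk2), LinearMap.rTensor_comp_lTensor]
          obtain ⟨z, hz⟩ := hstab 2 q hq
          rw [hcomp, ← hco, ← hz, ← LinearMap.rTensor_comp_apply,
            show mk2 ∘ₗ ((m ^ 2).restrictScalars k).subtype = 0 from
              LinearMap.ext fun a => Ideal.Quotient.eq_zero_iff_mem.2 a.2]
          simp
        rw [hq0, zero_add] at hff
        rw [hco, coactQ_apply, ← LinearMap.comp_apply (LinearMap.rTensor _ mk2), LinearMap.rTensor_comp_lTensor]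
        exact hff
      rw [key, LinearMap.rTensor_tmul]
      rfl
    · rintro _ ⟨w, ⟨hw, hwf⟩, rfl⟩
      refine ⟨w, ⟨hw.2, ?_⟩, rfl⟩
      have h' : coactQ I w = w ⊗ₜ[k] (1 : A ⧸ I) := hwf
      show TensorProduct.map mk2 (Ideal.Quotient.mkₐ k I).toLinearMap (Comod.coact (k := k) (A := A) w) =
        mk2 w ⊗ₜ[k] (1 : A ⧸ I)
      rw [← LinearMap.rTensor_comp_lTensor, LinearMap.comp_apply, ← coactQ_apply, h', LinearMap.rTensor_tmul]
  have hcot : GLin.cotSpace k R x = Submodule.map mk2 W := by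
    refine le_antisymm ?_ (Submodule.map_mono inf_le_right)
    rintro _ ⟨f, hf, rfl⟩
    obtain ⟨q, hq, w, hw, rfl⟩ := hmsplit f hf
    exact ⟨w, hw, by rw [map_add, show (Ideal.Quotient.mkₐ k (RingHom.ker x ^ 2)).toLinearMap q = 0 from
      Ideal.Quotient.eq_zero_iff_mem.2 hq, zero_add]⟩
  obtain ⟨N₀, hN₀, hc'⟩ := Comodule.exists_isCompl (V := R) hLR Wf hWf
  let W' : Submodule k R := N₀ ⊓ W
  have hW' : IsSubcomod (k := k) (A := A ⧸ I) W' := Comodule.isSubcomod_inf hN₀ hW
  have hWsplit : ∀ w ∈ W, ∃ a ∈ Wf, ∃ c ∈ W', w = a + c := fun w hw => by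
    obtain ⟨a, ha, c, hc0, rfl⟩ := Submodule.mem_sup.1 (hc'.sup_eq_top ▸ Submodule.mem_top : w ∈ Wf ⊔ N₀)
    exact ⟨a, ha, c, ⟨hc0, by simpa using sub_mem (H := W) hw ha.1⟩, rfl⟩
  have hW'1 : Module.finrank k ↥(Submodule.map mk2 W') = 1 := by
    have hsup : Submodule.map mk2 W = Submodule.map mk2 Wf ⊔ Submodule.map mk2 W' := by
      rw [← Submodule.map_sup]
      refine congrArg _ (le_antisymm (fun w hw => ?_) (sup_le inf_le_left inf_le_right))
      obtain ⟨a, ha, c, hc, rfl⟩ := hWsplit w hw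
      exact Submodule.add_mem_sup ha hc
    have hdis : Submodule.map mk2 Wf ⊓ Submodule.map mk2 W' = ⊥ := by
      rw [eq_bot_iff]
      rintro _ ⟨⟨a, ha, rfl⟩, c, hc0, hac⟩
      have : c = a := congrArg Subtype.val (hinj (a₁ := ⟨c, hc0.2⟩) (a₂ := ⟨a, ha.1⟩) hac)
      subst this
      rw [Submodule.disjoint_def.1 hc'.disjoint c ha hc0.1, map_zero]
      exact zero_mem _
    have hfd : Module.Finite k ↥(Submodule.map mk2 W) := by
      rw [← hcot]
      refine Module.finite_of_finrank_pos ?_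
      rw [← hI.2]; omega
    haveI := hfd
    haveI : Module.Finite k ↥(Submodule.map mk2 Wf) := Submodule.finiteDimensional_of_le (hsup ▸ le_sup_left)
    haveI : Module.Finite k ↥(Submodule.map mk2 W') := Submodule.finiteDimensional_of_le (hsup ▸ le_sup_right)
    have h := Submodule.finrank_sup_add_finrank_inf_eq (Submodule.map mk2 Wf) (Submodule.map mk2 W')
    rw [hdis, finrank_bot, add_zero, ← hsup] at h
    have h' := hI.2
    rw [hfix, hcot] at h'
    exact Nat.add_left_cancel (h.symm.trans h'.symm)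
  obtain ⟨L, hL, hLne⟩ : ∃ L ∈ W', mk2 L ≠ 0 := by
    by_contra hall
    push Not at hall
    have : Submodule.map mk2 W' = ⊥ :=
      eq_bot_iff.2 (by rintro _ ⟨c, hc, rfl⟩; exact (Submodule.mem_bot k).2 (hall c hc))
    rw [this, finrank_bot] at hW'1
    exact zero_ne_one hW'1
  have hspan : ∀ c ∈ W', ∃ t : k, c = t • L := fun c hc => by
    obtain ⟨t, ht⟩ := (finrank_eq_one_iff_of_nonzero' (⟨mk2 L, L, hL, rfl⟩ : Submodule.map mk2 W')
      (fun h => hLne (congrArg Subtype.val h))).1 hW'1 ⟨mk2 c, c, hc, rfl⟩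
    refine ⟨t, congrArg Subtype.val (hinj (a₁ := ⟨c, hc.2⟩) (a₂ := ⟨t • L, W.smul_mem t hL.2⟩) ?_)⟩
    show mk2 c = mk2 (t • L)
    rw [map_smul]
    exact (congrArg Subtype.val ht).symm
  have hL2 : L ∉ m ^ 2 := fun h => hLne (Ideal.Quotient.eq_zero_iff_mem.2 h)
  refine ⟨L, hL.2.2, hL2, ?_⟩
  -- displacement of the generators
  have hdL : disp I L ∈ (Ideal.span {L}).map (Algebra.TensorProduct.includeLeft : R →ₐ[k] R ⊗[k] (A ⧸ I)) := by
    rw [mem_map_includeLeft_iff b]
    intro i
    obtain ⟨y, hy⟩ := hW' L hL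
    rw [disp_apply, ← hco, ← hy, map_sub, comp_tmul]
    refine sub_mem ?_ (Ideal.mem_span_singleton.2 (by rw [Algebra.smul_def]; exact dvd_mul_left _ _))
    clear hy
    induction y with
    | zero => simp
    | add p q hp hq => rw [map_add, map_add]; exact add_mem hp hq
    | tmul c a =>
      obtain ⟨t, ht⟩ := hspan c c.2
      rw [LinearMap.rTensor_tmul, comp_tmul, Submodule.subtype_apply, ht, smul_smul, Algebra.smul_def]
      exact Ideal.mem_span_singleton.2 (dvd_mul_left _ _)
  have hsq : ∀ N : ℕ, (∀ f : R, disp I f ∈ (Ideal.span {L} ⊔ m ^ N).map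
      (Algebra.TensorProduct.includeLeft : R →ₐ[k] R ⊗[k] (A ⧸ I))) → ∀ q ∈ m ^ 2,
      disp I q ∈ (Ideal.span {L} ⊔ m ^ (N + 1)).map
      (Algebra.TensorProduct.includeLeft : R →ₐ[k] R ⊗[k] (A ⧸ I)) :=
    fun N ih q hq => disp_mem_of_mem_sq x hx I L N ih hq
  have hN : ∀ N : ℕ, ∀ f : R, disp I f ∈ (Ideal.span {L} ⊔ m ^ N).map
      (Algebra.TensorProduct.includeLeft : R →ₐ[k] R ⊗[k] (A ⧸ I)) := by
    intro N
    induction N with
    | zero => intro f; rw [pow_zero, Ideal.one_eq_top, sup_top_eq, Ideal.map_top]; trivial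
    | succ N ih =>
      intro f
      have h1 : disp (k := k) I (1 : R) = 0 := by
        rw [disp_apply, map_one, Algebra.TensorProduct.one_def, sub_self]
      have hfm : f - algebraMap k R (x f) ∈ m := by simp [hm, RingHom.mem_ker]
      obtain ⟨q, hq, w, hw, hqw⟩ := hmsplit _ hfm
      obtain ⟨a, ha, c, hc, rfl⟩ := hWsplit w hw
      obtain ⟨t, rfl⟩ := hspan c hc
      have hf' : f = x f • (1 : R) + (q + (a + t • L)) := by
        rw [← hqw, ← Algebra.algebraMap_eq_smul_one]; ring
      rw [hf', map_add, map_add, map_add, map_smul, map_smul, h1, smul_zero, zero_add,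
        show disp (k := k) I a = 0 by rw [disp_apply, show coactQ I a = a ⊗ₜ[k] (1 : A ⧸ I) from ha.2, sub_self], zero_add]
      refine add_mem ?_ ?_
      · exact hsq N ih q hq
      · refine Submodule.smul_of_tower_mem _ t (Ideal.map_mono le_sup_left hdL)
  intro f i
  haveI : m.IsPrime := RingHom.ker_isPrime x
  let Rm := Localization.AtPrime m
  have hle : Ideal.span {algebraMap R Rm L} ≠ ⊤ := by
    refine ne_top_of_le_ne_top (IsLocalRing.maximalIdeal.isMaximal Rm).ne_top ?_
    rw [← Localization.AtPrime.map_eq_maximalIdeal, Ideal.span_singleton_le_iff_mem]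
    exact Ideal.mem_map_of_mem _ hL.2.2
  haveI : IsNoetherianRing Rm := IsLocalization.isNoetherianRing m.primeCompl Rm inferInstance
  have hmem : algebraMap R Rm (comp b i (disp I f)) ∈ Ideal.span {algebraMap R Rm L} := by
    rw [← Ideal.Quotient.eq_zero_iff_mem]
    haveI : Nontrivial (Rm ⧸ Ideal.span {algebraMap R Rm L}) := Ideal.Quotient.nontrivial_iff.2 hle
    haveI : IsHausdorff (IsLocalRing.maximalIdeal Rm) (Rm ⧸ Ideal.span {algebraMap R Rm L}) :=
      IsHausdorff.of_le_jacobson _ _ (IsLocalRing.maximalIdeal_le_jacobson _)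
    refine IsHausdorff.haus (I := IsLocalRing.maximalIdeal Rm) inferInstance _ fun N => ?_
    have h := (mem_map_includeLeft_iff b _ _).1 (hN N f) i
    obtain ⟨l, hl, r, hr, hlr⟩ := Submodule.mem_sup.1 h
    rw [SModEq.zero, ← hlr, map_add, map_add]
    have hl0 : Ideal.Quotient.mk (Ideal.span {algebraMap R Rm L}) (algebraMap R Rm l) = 0 := by
      refine Ideal.Quotient.eq_zero_iff_mem.2 ?_
      rw [← Set.image_singleton, ← Ideal.map_span]
      exact Ideal.mem_map_of_mem _ hl
    rw [hl0, zero_add, show Ideal.Quotient.mk (Ideal.span {algebraMap R Rm L}) (algebraMap R Rm r) =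
      algebraMap R Rm r • (1 : Rm ⧸ Ideal.span {algebraMap R Rm L}) from
        Algebra.algebraMap_eq_smul_one (A := Rm ⧸ Ideal.span {algebraMap R Rm L}) _]
    refine Submodule.smul_mem_smul ?_ trivial
    rw [← Localization.AtPrime.map_eq_maximalIdeal, ← Ideal.map_pow]
    exact Ideal.mem_map_of_mem _ hr
  rw [← Set.image_singleton, ← Ideal.map_span, IsLocalization.algebraMap_mem_map_algebraMap_iff m.primeCompl] at hmem
  obtain ⟨u, hu, hu'⟩ := hmem
  exact ⟨u, fun h => hu (RingHom.mem_ker.2 h), Ideal.mem_span_singleton.1 hu'⟩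

end Groth.Agent.PsRefl28
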